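import Cfsg.Agent.Lib.TwoGroups.NormalFour
import Cfsg.Prelude.Def_Transfer

/-!
A normal subgroup of a 2-group contains a normal four-subgroup or has, up to index two, only central involutions.
-/

set_option autoImplicit false

namespace Cfsg.Agent.ZCGroup

open Cfsg

variable {S : Type*} [Group S]

/-- Two distinct commuting involutions span a four-group. -/
theorem exists_four {a b : S} (h : a * b = b * a) (ha : a * a = 1) (hb : b * b = 1) (ha1 : a ≠ 1) (hb1 : b ≠ 1)
    (hab : a ≠ b) :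
    ∃ F : Subgroup S, a ∈ F ∧ b ∈ F ∧ Nat.card F = 4 ∧ IsElementaryAbelian 2 F ∧
      ∀ y ∈ F, y = 1 ∨ y = a ∨ y = b ∨ y = a * b := by
  classical
  have e1 : a * (a * b) = b := by rw [← mul_assoc, ha, one_mul]
  have e2 : b * (a * b) = a := by rw [← mul_assoc, ← h, mul_assoc, hb, mul_one]
  have e3 : a * b * a = b := by rw [h, mul_assoc, ha, mul_one]
  have e4 : a * b * b = a := by rw [mul_assoc, hb, mul_one]
  have e5 : a * b * (a * b) = 1 := by rw [← mul_assoc, e3, hb]
  let F : Subgroup S :=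
    { carrier := {y | y = 1 ∨ y = a ∨ y = b ∨ y = a * b}
      one_mem' := Or.inl rfl
      mul_mem' := by
        rintro x y (rfl | rfl | rfl | rfl) (rfl | rfl | rfl | rfl) <;>
          simp only [one_mul, mul_one, ha, hb, e1, e2, e3, e4, e5, ← h, Set.mem_setOf_eq, eq_self_iff_true, true_or,
            or_true]
      inv_mem' := by
        rintro x (rfl | rfl | rfl | rfl)
        · exact Or.inl inv_one
        · exact Or.inr (Or.inl (inv_eq_of_mul_eq_one_right ha))
        · exact Or.inr (Or.inr (Or.inl (inv_eq_of_mul_eq_one_right hb)))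
        · exact Or.inr (Or.inr (Or.inr (inv_eq_of_mul_eq_one_right e5))) }
  have hm : ∀ y, y ∈ F ↔ y = 1 ∨ y = a ∨ y = b ∨ y = a * b := fun y => Iff.rfl
  refine ⟨F, Or.inr (Or.inl rfl), Or.inr (Or.inr (Or.inl rfl)), ?_, ⟨⟨⟨fun x y => Subtype.ext ?_⟩⟩, ?_⟩,
    fun y hy => hy⟩
  · have hs : ((F : Set S)) = ({1, a, b, a * b} : Finset S) := by
      ext y
      simp [hm]
    rw [show Nat.card F = Nat.card ↥(F : Set S) from rfl, Nat.card_coe_set_eq, hs, Set.ncard_coe_finset,
      Finset.card_insert_of_notMem, Finset.card_insert_of_notMem, Finset.card_insert_of_notMem,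
      Finset.card_singleton]
    · simp only [Finset.mem_singleton]
      exact fun e => ha1 (by simpa using e)
    · simp only [Finset.mem_insert, Finset.mem_singleton, not_or]
      exact ⟨hab, fun e => hb1 (by simpa using e)⟩
    · simp only [Finset.mem_insert, Finset.mem_singleton, not_or]
      refine ⟨ha1.symm, hb1.symm, fun e => hab ?_⟩
      calc a = a * (a * b) := by rw [← e, mul_one]
        _ = b := e1
  · obtain ⟨x, hx⟩ := x
    obtain ⟨y, hy⟩ := y
    show x * y = y * x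
    rcases (hm x).1 hx with rfl | rfl | rfl | rfl <;> rcases (hm y).1 hy with rfl | rfl | rfl | rfl <;>
      simp only [one_mul, mul_one, e1, e2, e3, e4, ← h]
  · rintro y (rfl | rfl | rfl | rfl)
    · exact one_pow _
    · rw [pow_two, ha]
    · rw [pow_two, hb]
    · rw [pow_two, e5]

/-- **The alternative.** -/
theorem four_or_index_two [Finite S] (hS : IsPGroup 2 S) (N : Subgroup S) [hNn : N.Normal] :
    (∃ V : Subgroup S, V.Normal ∧ V ≤ N ∧ Nat.card V = 4 ∧ ∀ v ∈ V, v * v = 1) ∨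
      ∃ T : Subgroup S, T ≤ N ∧ (∀ b ∈ N, ∀ c ∈ N, b ∉ T → c ∉ T → b⁻¹ * c ∈ T) ∧
        ∀ x ∈ T, x * x = 1 → x ∈ Subgroup.center S := by
  classical
  haveI : Fact (Nat.Prime 2) := ⟨Nat.prime_two⟩
  obtain ⟨A, ⟨hAn, hAc, hAN⟩, hmax⟩ := Set.Finite.exists_maximal
    (s := {A : Subgroup S | A.Normal ∧ IsMulCommutative A ∧ A ≤ N}) (Set.toFinite _)
    ⟨⊥, inferInstance, inferInstance, bot_le⟩
  haveI := hAn
  haveI := hAc
  have hAcomm : ∀ x ∈ A, ∀ y ∈ A, x * y = y * x := fun x hx y hy =>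
    congrArg Subtype.val (hAc.is_comm.comm ⟨x, hx⟩ ⟨y, hy⟩)
  -- self-centralising in `N`
  have hself : ∀ b ∈ N, b ∈ Subgroup.centralizer (A : Set S) → b ∈ A := by
    by_contra hno
    push Not at hno
    obtain ⟨b, hbN, hbC, hbA⟩ := hno
    let π := QuotientGroup.mk' A
    haveI : ((N ⊓ Subgroup.centralizer (A : Set S)).map π).Normal :=
      Subgroup.Normal.map inferInstance π (QuotientGroup.mk'_surjective _)
    have hne : (N ⊓ Subgroup.centralizer (A : Set S)).map π ≠ ⊥ := by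
      intro e
      have : π b ∈ (N ⊓ Subgroup.centralizer (A : Set S)).map π := Subgroup.mem_map_of_mem π ⟨hbN, hbC⟩
      rw [e, Subgroup.mem_bot] at this
      exact hbA ((QuotientGroup.eq_one_iff b).1 this)
    obtain ⟨w, hw, hwo, hwc⟩ := NormalFour.exists_central_mem (hS.to_quotient _) hne
    obtain ⟨x, hx, rfl⟩ := hw
    haveI : (Subgroup.zpowers (π x)).Normal := ⟨fun c hc g => by
      have hcc : c ∈ Subgroup.center _ := Subgroup.zpowers_le.2 hwc hc
      rw [Subgroup.mem_center_iff.1 hcc g, mul_inv_cancel_right]; exact hc⟩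
    set B := (Subgroup.zpowers (π x)).comap π with hB
    have hform : ∀ y ∈ B, ∃ i : ℤ, ∃ c ∈ A, y = x ^ i * c := by
      intro y hy
      obtain ⟨i, hi⟩ := Subgroup.mem_zpowers_iff.1 (Subgroup.mem_comap.1 hy)
      refine ⟨i, (x ^ i)⁻¹ * y, ?_, by rw [mul_inv_cancel_left]⟩
      rw [← map_zpow] at hi
      exact QuotientGroup.eq.1 hi
    have hAB : A ≤ B := fun c hc => by
      rw [hB, Subgroup.mem_comap, show π c = 1 from (QuotientGroup.eq_one_iff c).2 hc]
      exact one_mem _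
    have hxB : x ∈ B := Subgroup.mem_comap.2 (Subgroup.mem_zpowers _)
    have hBN : B ≤ N := fun y hy => by
      obtain ⟨i, c, hc, rfl⟩ := hform y hy
      exact N.mul_mem (N.zpow_mem hx.1 i) (hAN hc)
    have hBc : IsMulCommutative B := ⟨⟨fun p q => Subtype.ext (by
      obtain ⟨i, c, hc, hp⟩ := hform p p.2
      obtain ⟨j, d, hd, hq⟩ := hform q q.2
      have hxA : ∀ c ∈ A, Commute x c := fun c hc => (Subgroup.mem_centralizer_iff.1 hx.2 c hc).symm
      show (p : S) * q = q * p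
      rw [hp, hq]
      exact ((Commute.zpow_zpow (Commute.refl x) i j).mul_right ((hxA d hd).zpow_left i)).mul_left
        ((((hxA c hc).zpow_left j).symm).mul_right (hAcomm c hc d hd)))⟩⟩
    have := hmax ⟨(inferInstance : B.Normal), hBc, hBN⟩ hAB
    have hxA : x ∈ A := this hxB
    rw [show π x = 1 from (QuotientGroup.eq_one_iff x).2 hxA, orderOf_one] at hwo
    omega
  letI : CommGroup A := { (inferInstance : Group A) with mul_comm := hAc.is_comm.comm }
  set Ω := ((powMonoidHom 2 : A →* A).ker).map A.subtype with hΩ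
  have hΩ2 : ∀ a ∈ Ω, a * a = 1 := by
    rintro _ ⟨a, ha, rfl⟩
    have : a ^ 2 = 1 := ha
    rw [pow_two] at this
    exact congrArg Subtype.val this
  by_cases hbig : 3 ≤ Nat.card (powMonoidHom 2 : A →* A).ker
  · left
    haveI : Ω.Normal := ⟨by
      rintro _ ⟨a, ha, rfl⟩ g
      refine ⟨⟨g * a * g⁻¹, hAn.conj_mem _ a.2 g⟩, ?_, rfl⟩
      show (⟨g * a * g⁻¹, _⟩ : A) ^ 2 = 1
      refine Subtype.ext ?_
      show (g * (a : S) * g⁻¹) ^ 2 = 1
      have : a ^ 2 = 1 := ha
      rw [conj_pow, show (a : S) ^ 2 = 1 from congrArg Subtype.val this, mul_one, mul_inv_cancel]⟩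
    obtain ⟨k, hk⟩ := IsPGroup.iff_card.1 ((hS.to_subgroup A).to_subgroup (powMonoidHom 2 : A →* A).ker)
    have h4 : 4 ≤ Nat.card (powMonoidHom 2 : A →* A).ker := by
      rw [hk] at hbig ⊢
      rcases k with _ | _ | k
      · norm_num at hbig
      · norm_num at hbig
      · calc 4 = 2 ^ 2 := by norm_num
          _ ≤ _ := Nat.pow_le_pow_right two_pos (by omega)
    obtain ⟨V, hVn, hVle, hV⟩ := NormalFour.exists_normal_four_le hS (N := Ω) hΩ2
      (by rwa [hΩ, ← Nat.card_congr (Subgroup.equivMapOfInjective _ _ A.subtype_injective).toEquiv])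
    refine ⟨V, hVn, hVle.trans ?_, hV, fun v hv => hΩ2 v (hVle hv)⟩
    rintro _ ⟨a, -, rfl⟩
    exact hAN a.2
  -- `A` is cyclic
  haveI := NormalFour.isCyclic_of_sqrt_le_two (hS.to_subgroup A) (by omega)
  have hcentral : ∀ x ∈ A, x * x = 1 → x ∈ Subgroup.center S := by
    intro x hx hxx
    rw [Subgroup.mem_center_iff]
    intro g
    by_contra hne
    have hy : g * x * g⁻¹ ∈ A := hAn.conj_mem x hx g
    have hx1 : x ≠ 1 := fun e => hne (by rw [e, mul_one, one_mul])
    refine hbig ?_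
    have hmem : ∀ (c : S) (hc : c ∈ A), c * c = 1 → (⟨c, hc⟩ : A) ∈ (powMonoidHom 2 : A →* A).ker :=
      fun c hc h => by
        show (⟨c, hc⟩ : A) ^ 2 = 1
        exact Subtype.ext (by show c ^ 2 = 1; rw [pow_two, h])
    have hgy : g * x * g⁻¹ * (g * x * g⁻¹) = 1 := by
      rw [show g * x * g⁻¹ * (g * x * g⁻¹) = g * (x * x) * g⁻¹ by group, hxx]; group
    let f : Fin 3 → (powMonoidHom 2 : A →* A).ker :=
      ![1, ⟨⟨x, hx⟩, hmem x hx hxx⟩, ⟨⟨_, hy⟩, hmem _ hy hgy⟩]
    have hf : Function.Injective f := by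
      intro i j hij
      have h0 := congrArg (fun t => ((t.1 : A) : S)) hij
      have hyx : g * x * g⁻¹ ≠ x := fun e => hne (mul_inv_eq_iff_eq_mul.1 e)
      have hy1 : g * x * g⁻¹ ≠ 1 := fun e => hx1 (conj_eq_one_iff.1 e)
      fin_cases i <;> fin_cases j <;> simp [f, hx1, hx1.symm, hy1, hy1.symm, hyx, hyx.symm] at h0 ⊢
    simpa using Nat.card_le_card_of_injective f hf
  obtain ⟨⟨a, haA⟩, hgen⟩ := IsCyclic.exists_generator (α := A)
  have hgen' : ∀ c ∈ A, ∃ i : ℤ, a ^ i = c := fun c hc => by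
    obtain ⟨i, hi⟩ := hgen ⟨c, hc⟩
    exact ⟨i, congrArg Subtype.val hi⟩
  obtain ⟨n, hn⟩ := IsPGroup.iff_orderOf.1 hS a
  have hzero : ∀ c : ℤ, (2 : ℤ) ^ n ∣ c → a ^ c = 1 := fun c hc => by
    rw [← orderOf_dvd_iff_zpow_eq_one, hn]; exact_mod_cast hc
  have hzero' : ∀ c : ℤ, a ^ c = 1 → (2 : ℤ) ^ n ∣ c := fun c hc => by
    rw [← orderOf_dvd_iff_zpow_eq_one, hn] at hc; exact_mod_cast hc
  have heq : ∀ c d : ℤ, (2 : ℤ) ^ n ∣ c - d → a ^ c = a ^ d := fun c d h => by
    rw [← mul_inv_eq_one, ← zpow_sub]; exact hzero _ h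
  have hinA : ∀ b ∈ N, b * a * b⁻¹ = a → b ∈ A := by
    intro b hb hfix
    refine hself b hb (Subgroup.mem_centralizer_iff.2 fun c hc => ?_)
    obtain ⟨i, rfl⟩ := hgen' c hc
    exact ((show Commute b a from mul_inv_eq_iff_eq_mul.1 hfix).zpow_right i).eq.symm
  -- an element acting by an exponent congruent to one modulo four gives a normal four-group
  by_cases hbad : ∃ b ∈ N, b ∉ A ∧ ∃ i : ℤ, (4 : ℤ) ∣ i - 1 ∧ b * a * b⁻¹ = a ^ i
  · left
    obtain ⟨b, hb, hbA, i, hi4, hbi⟩ := hbad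
    have hpow : ∀ m : ℕ, ∃ j : ℤ, (4 : ℤ) ∣ j - 1 ∧ b ^ m * a * (b ^ m)⁻¹ = a ^ j := by
      intro m
      induction m with
      | zero => exact ⟨1, by simp, by simp⟩
      | succ m ih =>
        obtain ⟨j, hj4, hj⟩ := ih
        refine ⟨j * i, ?_, ?_⟩
        · obtain ⟨p, hp⟩ := hj4
          obtain ⟨q, hq⟩ := hi4
          exact ⟨4 * p * q + p + q, by rw [show j = 1 + 4 * p by omega, show i = 1 + 4 * q by omega]; ring⟩
        · rw [zpow_mul, ← hj, conj_zpow, ← hbi, pow_succ]
          group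
    -- the last power outside `A`
    have hex : ∃ k, b ^ 2 ^ k ∈ A := by
      obtain ⟨k, hk⟩ := hS b
      exact ⟨k, by rw [hk]; exact A.one_mem⟩
    obtain ⟨k, hkA, hknA⟩ : ∃ k, b ^ 2 ^ (k + 1) ∈ A ∧ b ^ 2 ^ k ∉ A := by
      rcases Nat.eq_zero_or_pos (Nat.find hex) with h0 | h0
      · have := Nat.find_spec hex
        rw [h0, pow_zero, pow_one] at this
        exact absurd this hbA
      · exact ⟨Nat.find hex - 1, by rw [Nat.sub_add_cancel h0]; exact Nat.find_spec hex,
          Nat.find_min hex (by omega)⟩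
    obtain ⟨i', hi', hci⟩ := hpow (2 ^ k)
    set c := b ^ 2 ^ k with hc
    have hcN : c ∈ N := N.pow_mem hb _
    obtain ⟨l, hl⟩ := hgen' (c * c) (by rw [hc, ← pow_add, ← two_mul, ← pow_succ']; exact hkA)
    have hcc : a ^ (i' * i') = a := by
      calc a ^ (i' * i') = c * (c * a * c⁻¹) * c⁻¹ := by rw [zpow_mul, ← hci, conj_zpow, ← hci]
        _ = (c * c) * a * (c * c)⁻¹ := by group
        _ = a := by rw [← hl]; group
    have hdiv : (2 : ℤ) ^ n ∣ i' * i' - 1 := hzero' _ (by rw [zpow_sub, hcc, zpow_one, mul_inv_cancel])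
    obtain ⟨p, hp⟩ := hi'
    have hn3 : 3 ≤ n := by
      by_contra hlt
      refine hknA (hinA c hcN ?_)
      rw [hci]
      conv_rhs => rw [← zpow_one a]
      refine heq _ _ ((pow_dvd_pow (2 : ℤ) (show n ≤ 2 by omega)).trans ⟨p, by rw [hp]; norm_num⟩)
    have hp1 : (2 : ℤ) ^ n = 2 * 2 ^ (n - 1) := by rw [← pow_succ']; congr 1; omega
    have hp2 : (2 : ℤ) ^ (n - 1) = 2 * 2 ^ (n - 2) := by rw [← pow_succ']; congr 1; omega
    -- `c` acts as `1 + 2 ^ (n - 1)`
    set h := (2 : ℤ) ^ (n - 1) with hh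
    set e := (2 : ℤ) ^ (n - 2) with he
    have hch : c * a * c⁻¹ = a ^ (1 + h) := by
      rw [hci]
      rcases CentFour.modEq_of_sq_modEq_one (by omega) hdiv with ⟨q, hq⟩ | ⟨q, hq⟩
      · rcases Int.even_or_odd' q with ⟨d, hd | hd⟩
        · refine absurd (hinA c hcN ?_) hknA
          rw [hci]
          conv_rhs => rw [← zpow_one a]
          exact heq _ _ ⟨d, by rw [hp1, hq, hd]; ring⟩
        · exact heq _ _ ⟨d, by
            have : i' = 1 + h * (2 * d + 1) := by rw [← hd]; linarith [hq]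
            rw [this, hp1]; ring⟩
      · exfalso
        have h4h : (4 : ℤ) ∣ h := by
          rw [hh, show (4 : ℤ) = 2 ^ 2 by norm_num]
          exact pow_dvd_pow 2 (by omega)
        obtain ⟨r, hr⟩ := h4h
        rw [← hh, hr] at hq
        have e4 : i' + 1 = 4 * (r * q) := by rw [hq]; ring
        omega
    have hact : ∀ s : ℤ, c * a ^ s * c⁻¹ = a ^ (s * (1 + h)) := fun s => by
      rw [← conj_zpow, hch, ← zpow_mul, mul_comm]
    have hleven : Even l := by
      have h1 : a ^ (l * (1 + h)) = a ^ l := by rw [← hact, hl]; group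
      have h2 : (2 : ℤ) ^ n ∣ l * h := hzero' _ (by
        rw [show l * h = l * (1 + h) - l by ring, zpow_sub, h1, mul_inv_cancel])
      obtain ⟨q, hq⟩ := h2
      rw [hp1] at hq
      have hh0 : h ≠ 0 := by rw [hh]; positivity
      exact ⟨q, mul_right_cancel₀ hh0 (by rw [hq]; ring)⟩
    obtain ⟨l', rfl⟩ := hleven
    -- an involution
    set j := -l' * (1 - e) with hj
    set x := c * a ^ j with hx
    have hxx : x * x = 1 := by
      calc x * x = (c * a ^ j * c⁻¹) * (c * c) * a ^ j := by rw [hx]; group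
        _ = a ^ (j * (1 + h) + (l' + l') + j) := by rw [hact, ← hl, ← zpow_add, ← zpow_add]
        _ = 1 := hzero _ ⟨l' * 2 ^ (n - 3), by
          have h3 : e * e = 2 ^ (n - 1) * 2 ^ (n - 3) := by
            rw [he, ← pow_add, ← pow_add]; congr 1; omega
          have hhe : h = 2 * e := hp2
          calc j * (1 + h) + (l' + l') + j = l' * (2 * (e * e)) := by rw [hj, hhe]; ring
            _ = _ := by rw [h3, hp1, hh]; ring⟩
    have hxN : x ∈ N := N.mul_mem hcN (N.zpow_mem (hAN haA) j)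
    have hxA : x ∉ A := fun hxA => hknA (by
      have := A.mul_mem hxA (A.inv_mem (A.zpow_mem haA j))
      rwa [hx, mul_inv_cancel_right] at this)
    have hxact : ∀ d ∈ A, x * d * x⁻¹ = d ^ (1 + h) := by
      intro d hd
      obtain ⟨s, rfl⟩ := hgen' d hd
      rw [← zpow_mul, ← hact, hx]
      group
    set w := a ^ h with hw
    have hwA : w ∈ A := A.zpow_mem haA h
    have hww : w * w = 1 := by rw [hw, ← zpow_add]; exact hzero _ ⟨1, by rw [hp1]; ring⟩
    have hw1 : w ≠ 1 := fun e => by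
      have h1 := hzero' _ e
      have : (0 : ℤ) < h := by rw [hh]; positivity
      have := Int.le_of_dvd this h1
      omega
    have hwZ := Subgroup.mem_center_iff.1 (hcentral w hwA hww)
    obtain ⟨V, hwV, hxV, hV4, hVe, hVcases⟩ :=
      exists_four (hwZ x).symm hww hxx hw1 (fun e => hxA (e ▸ A.one_mem)) (fun e => hxA (e ▸ hwA))
    refine ⟨V, ⟨fun v hv g => ?_⟩, fun v hv => ?_, hV4, fun v hv => by rw [← pow_two]; exact hVe.2 v hv⟩
    · have hgw : g * w * g⁻¹ = w := by rw [hwZ g, mul_inv_cancel_right]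
      have hgx : g * x * g⁻¹ = x ∨ g * x * g⁻¹ = w * x := by
        set y := g * x * g⁻¹ with hy
        have hyN : y ∈ N := hNn.conj_mem x hxN g
        have hyact : ∀ d ∈ A, y * d * y⁻¹ = d ^ (1 + h) := by
          intro d hd
          calc y * d * y⁻¹ = g * (x * (g⁻¹ * d * g) * x⁻¹) * g⁻¹ := by rw [hy]; group
            _ = g * (g⁻¹ * d * g) ^ (1 + h) * g⁻¹ := by
              rw [hxact _ (by have := hAn.conj_mem d hd g⁻¹; rwa [inv_inv] at this)]
            _ = _ := by rw [← conj_zpow]; congr 1; group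
        have hd0 : y * x⁻¹ ∈ A := by
          have hxi : x⁻¹ = x := inv_eq_of_mul_eq_one_right hxx
          refine hinA _ (N.mul_mem hyN (N.inv_mem hxN)) ?_
          calc y * x⁻¹ * a * (y * x⁻¹)⁻¹ = y * (x⁻¹ * a * x⁻¹⁻¹) * y⁻¹ := by group
            _ = y * (x * a * x⁻¹) * y⁻¹ := by rw [hxi, hxi]
            _ = x * (x * a * x⁻¹) * x⁻¹ := by
              rw [hxact a haA, hyact _ (A.zpow_mem haA (1 + h)), hxact _ (A.zpow_mem haA (1 + h))]
            _ = a := by
              calc x * (x * a * x⁻¹) * x⁻¹ = (x * x) * a * (x * x)⁻¹ := by group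
                _ = a := by rw [hxx]; group
        obtain ⟨s, hs⟩ := hgen' _ hd0
        have hys : y = a ^ s * x := by rw [hs]; group
        have hyy : y * y = 1 := by
          rw [hy, show g * x * g⁻¹ * (g * x * g⁻¹) = g * (x * x) * g⁻¹ by group, hxx]; group
        have hsd : (2 : ℤ) ^ n ∣ s * (2 + h) := by
          refine hzero' _ ?_
          calc a ^ (s * (2 + h)) = a ^ s * (a ^ s) ^ (1 + h) := by
                rw [← zpow_mul, ← zpow_add]; congr 1; ring
            _ = a ^ s * (x * a ^ s * x⁻¹) := by rw [hxact _ (A.zpow_mem haA s)]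
            _ = y * y * (x * x)⁻¹ := by rw [hys]; group
            _ = 1 := by rw [hyy, hxx]; group
        have hs2 : h ∣ s := by
          have h1 : (2 : ℤ) * h ∣ 2 * (s * (1 + e)) := by
            rw [← hp1]; convert hsd using 1; rw [show h = 2 * e from hp2]; ring
          have h2 : h ∣ s * (1 + e) := (mul_dvd_mul_iff_left (by norm_num : (2 : ℤ) ≠ 0)).1 h1
          have hcop : IsCoprime h (1 + e) := by
            rw [hh]
            refine IsCoprime.pow_left ?_
            refine ⟨-(2 ^ (n - 3)), 1, ?_⟩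
            rw [he, show (2 : ℤ) ^ (n - 2) = 2 * 2 ^ (n - 3) by rw [← pow_succ']; congr 1; omega]
            ring
          exact hcop.dvd_of_dvd_mul_right h2
        obtain ⟨q, rfl⟩ := hs2
        rcases Int.even_or_odd' q with ⟨d, rfl | rfl⟩
        · left
          rw [hys, hzero _ ⟨d, by rw [hp1]; ring⟩, one_mul]
        · right
          rw [hys, show h * (2 * d + 1) = 2 ^ n * d + h by rw [hp1]; ring, zpow_add, hzero _ (dvd_mul_right _ _),
            one_mul]
      rcases hVcases v hv with rfl | rfl | rfl | rfl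
      · simp
      · rw [hgw]; exact hwV
      · rcases hgx with h' | h' <;> rw [h']
        · exact hxV
        · exact V.mul_mem hwV hxV
      · rw [show g * (w * x) * g⁻¹ = g * w * g⁻¹ * (g * x * g⁻¹) by group, hgw]
        rcases hgx with h' | h' <;> rw [h']
        · exact V.mul_mem hwV hxV
        · exact V.mul_mem hwV (V.mul_mem hwV hxV)
    · rcases hVcases v hv with rfl | rfl | rfl | rfl
      · exact N.one_mem
      · exact hAN hwA
      · exact hxN
      · exact N.mul_mem (hAN hwA) hxN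
  · right
    refine ⟨A, hAN, fun b hb c hc hbA hcA => ?_, hcentral⟩
    push Not at hbad
    obtain ⟨i, hi⟩ := hgen' _ (hAn.conj_mem a haA b)
    obtain ⟨j, hj⟩ := hgen' _ (hAn.conj_mem a haA c)
    obtain ⟨i', hi'⟩ := hgen' _ (hAn.conj_mem a haA b⁻¹)
    rw [inv_inv] at hi'
    rcases Nat.lt_or_ge n 2 with hn2 | hn2
    · refine absurd (hinA b hb ?_) hbA
      rcases Int.even_or_odd' i with ⟨k, hk | hk⟩
      · have h1 : a ^ i = 1 := hzero _ (by rw [hk]; interval_cases n <;> simp)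
        rw [hi, conj_eq_one_iff] at h1
        rw [h1]; group
      · rw [← hi]
        conv_rhs => rw [← zpow_one a]
        exact heq _ _ ((pow_dvd_pow (2 : ℤ) (show n ≤ 1 by omega)).trans ⟨k, by rw [hk]; ring⟩)
    -- both exponents are congruent to three modulo four
    have hodd : ∀ g : S, ∀ r : ℤ, a ^ r = g * a * g⁻¹ → ¬ (2 : ℤ) ∣ r := by
      intro g r hr h2
      obtain ⟨r', rfl⟩ := h2
      have h1 : (g * a * g⁻¹) ^ ((2 : ℤ) ^ (n - 1)) = 1 := by
        rw [← hr, ← zpow_mul]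
        exact hzero _ ⟨r', by rw [show (2 : ℤ) ^ n = 2 * 2 ^ (n - 1) by rw [← pow_succ']; congr 1; omega]; ring⟩
      rw [conj_zpow, conj_eq_one_iff] at h1
      have h2 := hzero' _ h1
      have h3 : (2 : ℤ) ^ (n - 1) < 2 ^ n := pow_lt_pow_right₀ (by norm_num) (by omega)
      have := Int.le_of_dvd (by positivity) h2
      omega
    have h4i : ¬ (4 : ℤ) ∣ i - 1 := fun h4 => hbad b hb hbA i h4 hi.symm
    have h4j : ¬ (4 : ℤ) ∣ j - 1 := fun h4 => hbad c hc hcA j h4 hj.symm
    have hi2 := hodd b i hi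
    have hj2 := hodd c j hj
    have hii : (4 : ℤ) ∣ i * i' - 1 := by
      refine (show (4 : ℤ) ∣ (2 : ℤ) ^ n from ?_).trans (hzero' _ ?_)
      · rw [show (4 : ℤ) = 2 ^ 2 by norm_num]; exact pow_dvd_pow 2 hn2
      · rw [zpow_sub, zpow_one, mul_comm i i', zpow_mul, hi', show b⁻¹ * a * b = b⁻¹ * a * b⁻¹⁻¹ by rw [inv_inv],
          conj_zpow, hi]
        group
    have hi'2 : ¬ (2 : ℤ) ∣ i' := by
      have := hodd b⁻¹ i' (by rw [inv_inv]; exact hi')
      exact this
    by_contra hne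
    refine hbad (b⁻¹ * c) (N.mul_mem (N.inv_mem hb) hc) hne (i' * j) ?_ ?_
    · obtain ⟨p, hp⟩ : ∃ p, i = 4 * p + 3 := ⟨i / 4, by omega⟩
      obtain ⟨q, hq⟩ : ∃ q, j = 4 * q + 3 := ⟨j / 4, by omega⟩
      obtain ⟨r, hr⟩ := hii
      exact ⟨q * i' + i' - p * i' - i' + r + 0, by
        subst hp hq
        linear_combination hr⟩
    · rw [zpow_mul, hi', show b⁻¹ * a * b = b⁻¹ * a * b⁻¹⁻¹ by rw [inv_inv], conj_zpow, hj]
      group

end Cfsg.Agent.ZCGroup
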