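import Cfsg.Agent.Lib.ZCGroup.Functor
import Cfsg.Agent.S0111
import Cfsg.Agent.S0505
import Cfsg.Agent.Lib.Transfer.Basic
import Cfsg.Agent.Lib.Involutions.StronglyEmbedded
import Cfsg.Prelude.Def_CaseTheorems
import Cfsg.Prelude.Def_Involutions

/-!
The subgroup generated by the elements of odd order.
-/

set_option autoImplicit false

namespace Cfsg.Agent.ZCGroup

open Cfsg

variable {G : Type*} [Group G] [Finite G] (hO' : pPrimeCore 2 G = ⊥) (hO : pCore 2 G = ⊥)

theorem odd_mem {g : G} (h : (orderOf g).Coprime 2) : g ∈ pResidual 2 G := Subgroup.subset_closure h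

instance residual_normal : (pResidual 2 G).Normal := ⟨fun x hx g => by
  induction hx using Subgroup.closure_induction with
  | mem y hy =>
    refine odd_mem ?_
    rw [show g * y * g⁻¹ = MulAut.conj g y from rfl,
      show orderOf (MulAut.conj g y) = orderOf y from orderOf_injective (MulAut.conj g).toMonoidHom (MulAut.conj g).injective y]
    exact hy
  | one => simp
  | mul a b _ _ ha hb => simpa [mul_assoc] using mul_mem ha hb
  | inv a _ ha => simpa [mul_assoc] using inv_mem ha⟩

theorem inf_le_normalizer (S : Sylow 2 G) :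
    (S : Subgroup G) ≤ Subgroup.normalizer (((S : Subgroup G) ⊓ pResidual 2 G : Subgroup G) : Set G) := fun s hs =>
  Subgroup.mem_normalizer_fintype fun x hx =>
    ⟨(S : Subgroup G).mul_mem ((S : Subgroup G).mul_mem hs hx.1) ((S : Subgroup G).inv_mem hs),
      residual_normal.conj_mem x hx.2 s⟩

/-- The trace of a Sylow subgroup on the residual is a Sylow subgroup of it. -/
theorem exists_sylow (S : Sylow 2 G) : ∃ P : Sylow 2 ↥(pResidual 2 G),
    (P : Subgroup ↥(pResidual 2 G)).map (pResidual 2 G).subtype = (S : Subgroup G) ⊓ pResidual 2 G := by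
  haveI : Fact (Nat.Prime 2) := ⟨Nat.prime_two⟩
  set H := pResidual 2 G with hH
  have hR : IsPGroup 2 ↥(((S : Subgroup G) ⊓ H).subgroupOf H) :=
    (S.isPGroup'.to_le inf_le_left).comap_subtype
  obtain ⟨P, hP⟩ := hR.exists_le_sylow
  refine ⟨P, (Subgroup.eq_of_le_of_card_ge (fun x hx => ?_) ?_).symm⟩
  · exact ⟨⟨x, hx.2⟩, hP hx, rfl⟩
  · obtain ⟨Q, hQ⟩ := (P.isPGroup'.map H.subtype).exists_le_sylow
    obtain ⟨g, hg⟩ := MulAction.exists_smul_eq G Q S
    have hle : ((P : Subgroup ↥H).map H.subtype).map (MulAut.conj g).toMonoidHom ≤ (S : Subgroup G) ⊓ H := by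
      rintro _ ⟨x, hx, rfl⟩
      refine ⟨?_, residual_normal.conj_mem x ((Subgroup.map_subtype_le _) hx) g⟩
      rw [← hg]
      exact Subgroup.smul_mem_pointwise_smul x (MulAut.conj g) (Q : Subgroup G) (hQ hx)
    have := Subgroup.card_le_of_le hle
    rwa [Subgroup.card_map_of_injective (MulAut.conj g).injective] at this

/-- **Transfer**: an involution of the trace of a Sylow subgroup is conjugate into a subgroup of index two of it. -/
theorem conj_into (S : Sylow 2 G) {T : Subgroup G} (hT : T ≤ (S : Subgroup G) ⊓ pResidual 2 G)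
    (h : ∀ b ∈ (S : Subgroup G) ⊓ pResidual 2 G, ∀ c ∈ (S : Subgroup G) ⊓ pResidual 2 G, b ∉ T → c ∉ T →
      b⁻¹ * c ∈ T)
    {t : G} (ht : t ∈ (S : Subgroup G) ⊓ pResidual 2 G) (ht2 : orderOf t = 2) :
    ∃ g ∈ pResidual 2 G, g * t * g⁻¹ ∈ T := by
  haveI : Fact (Nat.Prime 2) := ⟨Nat.prime_two⟩
  by_cases htT : t ∈ T
  · exact ⟨1, one_mem _, by simpa using htT⟩
  obtain ⟨P, hP⟩ := exists_sylow S
  have hmemP : ∀ x : ↥(pResidual 2 G), x ∈ (P : Subgroup ↥(pResidual 2 G)) ↔ (x : G) ∈ (S : Subgroup G) ⊓ (pResidual 2 G) := fun x => by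
    rw [← hP]
    exact ⟨fun hx => ⟨x, hx, rfl⟩, fun ⟨y, hy, e⟩ => (Subtype.ext e : y = x) ▸ hy⟩
  have hQi : (T.subgroupOf (pResidual 2 G)).relIndex (P : Subgroup ↥(pResidual 2 G)) = 2 := by
    refine Subgroup.relIndex_eq_two_iff.2 ⟨⟨t, ht.2⟩, (hmemP _).2 ht, fun b hb => ?_⟩
    have hb' := (hmemP b).1 hb
    have hiff : ∀ x : ↥(pResidual 2 G), x ∈ T.subgroupOf (pResidual 2 G) ↔ (x : G) ∈ T := fun x => Iff.rfl
    simp only [hiff, Subgroup.coe_mul]
    by_cases hbT : (b : G) ∈ T
    · exact Or.inr ⟨hbT, fun h' => htT (by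
        have := T.mul_mem (T.inv_mem hbT) h'
        rwa [inv_mul_cancel_left] at this)⟩
    · refine Or.inl ⟨?_, hbT⟩
      have := h _ (inv_mem hb') t ht (fun e => hbT (by simpa using T.inv_mem e)) htT
      rwa [inv_inv] at this
  rcases S0111.result P (T.subgroupOf (pResidual 2 G)) (fun x hx => (hmemP x).2 (hT hx)) hQi ⟨t, ht.2⟩
      (by rw [Subgroup.orderOf_mk]; exact ht2) ((hmemP _).2 ht) htT with ⟨M, hMn, hMi, htM⟩ | ⟨g, hg⟩
  · exfalso
    have hle : (pResidual 2 G) ≤ M.map (pResidual 2 G).subtype := by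
      refine (Subgroup.closure_le _).2 ?_
      intro x hx
      obtain ⟨k, hk⟩ := exists_pow_eq_self_of_coprime (x := (⟨x, odd_mem hx⟩ : ↥(pResidual 2 G))) (n := 2)
        (by rw [Subgroup.orderOf_mk]; exact (Nat.coprime_comm.1 hx))
      refine ⟨⟨x, odd_mem hx⟩, ?_, rfl⟩
      rw [← hk]
      exact M.pow_mem (Subgroup.sq_mem_of_index_two hMi _) k
    obtain ⟨y, hy, e⟩ := hle ht.2
    exact htM ((Subtype.ext e : y = ⟨t, ht.2⟩) ▸ hy)
  · exact ⟨g, g.2, hg⟩

include hO' in
theorem trace_ne_bot (hO : pCore 2 G = ⊥) (heven : Even (Nat.card G)) (S : Sylow 2 G) :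
    (S : Subgroup G) ⊓ pResidual 2 G ≠ ⊥ := by
  haveI : Fact (Nat.Prime 2) := ⟨Nat.prime_two⟩
  intro h
  obtain ⟨P, hP⟩ := exists_sylow S
  rw [h, Subgroup.map_eq_bot_iff, Subgroup.ker_subtype, le_bot_iff] at hP
  have hodd : (Nat.card ↥(pResidual 2 G)).Coprime 2 := by
    refine ((Nat.Prime.coprime_iff_not_dvd Nat.prime_two).2 fun h2 => ?_).symm
    have h3 := P.dvd_card_of_dvd_card h2
    rw [hP, Subgroup.card_bot] at h3
    exact Nat.prime_two.not_dvd_one h3
  have hH : pResidual 2 G = ⊥ := by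
    rw [← le_bot_iff, ← hO']
    exact le_sSup ⟨residual_normal, hodd⟩
  have htop : IsPGroup 2 ↥(⊤ : Subgroup G) := by
    intro x
    obtain ⟨k, m, hm, e⟩ := Nat.exists_eq_two_pow_mul_odd (n := orderOf x) (orderOf_pos x).ne'
    refine ⟨k, Subtype.ext ?_⟩
    show (x : G) ^ 2 ^ k = 1
    have hy : ((x : G) ^ 2 ^ k) ∈ pResidual 2 G := by
      refine odd_mem ?_
      have hd : orderOf ((x : G) ^ 2 ^ k) ∣ m := by
        refine orderOf_dvd_of_pow_eq_one ?_
        rw [← pow_mul, ← e]
        exact orderOf_dvd_iff_pow_eq_one.1 (Subgroup.orderOf_coe x).dvd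
      exact Nat.Coprime.coprime_dvd_left hd (Nat.coprime_two_right.2 hm)
    rwa [hH, Subgroup.mem_bot] at hy
  have : (⊤ : Subgroup G) ≤ pCore 2 G := le_sSup ⟨inferInstance, htop⟩
  rw [hO, le_bot_iff] at this
  have hc : Nat.card G = 1 := by rw [← Subgroup.card_top, this, Subgroup.card_bot]
  rw [hc] at heven
  exact absurd heven (by decide)

theorem residual_sup_eq_top (S : Sylow 2 G) : pResidual 2 G ⊔ (S : Subgroup G) = ⊤ := by
  classical
  refine FittingCores.eq_top_of_forall_sylow_le fun r hr => ?_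
  haveI := Fact.mk hr
  by_cases h2 : r = 2
  · subst h2
    exact ⟨S, le_sup_right⟩
  · refine ⟨default, fun x hx => Subgroup.mem_sup_left (odd_mem ?_)⟩
    obtain ⟨k, hk⟩ := IsPGroup.iff_orderOf.1 (default : Sylow r G).isPGroup' ⟨x, hx⟩
    rw [Subgroup.orderOf_mk] at hk
    rw [hk]
    exact Nat.Coprime.pow_left k ((Nat.coprime_primes hr Nat.prime_two).2 h2)

include hO' in
/-- **A normaliser containing the centralisers of the involutions gives a strongly embedded subgroup.** -/
theorem exists_se (S : Sylow 2 G) (hR : (S : Subgroup G) ⊓ pResidual 2 G ≠ ⊥) {W : Subgroup G} (hW : W ≠ ⊥)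
    (hodd : ¬ 2 ∣ Nat.card W) (hS : (S : Subgroup G) ≤ Subgroup.normalizer (W : Set G))
    (hN : ∀ g ∈ pResidual 2 G, g ∈ Subgroup.normalizer (((S : Subgroup G) ⊓ pResidual 2 G : Subgroup G) : Set G) →
      g ∈ Subgroup.normalizer (W : Set G))
    (hc : ∀ t ∈ (S : Subgroup G) ⊓ pResidual 2 G, orderOf t = 2 →
      Subgroup.centralizer {t} ≤ Subgroup.normalizer (W : Set G)) :
    ∃ M : Subgroup ↥(pResidual 2 G), IsStronglyEmbedded M := by
  haveI : Fact (Nat.Prime 2) := ⟨Nat.prime_two⟩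
  obtain ⟨P, hP⟩ := exists_sylow S
  set M := (Subgroup.normalizer (W : Set G)).subgroupOf (pResidual 2 G) with hM
  have hne : M ≠ ⊤ := by
    intro e
    rw [hM, Subgroup.subgroupOf_eq_top] at e
    have htop : (⊤ : Subgroup G) ≤ Subgroup.normalizer (W : Set G) := by
      rw [← residual_sup_eq_top S]
      exact sup_le e hS
    haveI : W.Normal := Subgroup.normalizer_eq_top_iff.1 (top_le_iff.1 htop)
    refine hW (le_bot_iff.1 ?_)
    rw [← hO']
    exact le_sSup ⟨inferInstance, ((Nat.Prime.coprime_iff_not_dvd Nat.prime_two).2 hodd).symm⟩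
  have hmemP : ∀ x : ↥(pResidual 2 G), x ∈ (P : Subgroup ↥(pResidual 2 G)) ↔ (x : G) ∈ (S : Subgroup G) ⊓ (pResidual 2 G) := fun x => by
    rw [← hP]
    exact ⟨fun hx => ⟨x, hx, rfl⟩, fun ⟨y, hy, e⟩ => (Subtype.ext e : y = x) ▸ hy⟩
  have hPM : (P : Subgroup ↥(pResidual 2 G)) ≤ M := fun x hx => hS ((hmemP x).1 hx).1
  let T : Sylow 2 ↥M := P.subtype hPM
  have hTmap : (T : Subgroup ↥M).map M.subtype = P := Subgroup.map_subgroupOf_eq_of_le hPM
  refine ⟨M, Invol.se_of_centralizers hne T ?_ ?_ ?_⟩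
  · refine even_iff_two_dvd.2 ?_
    have hPne : (P : Subgroup ↥(pResidual 2 G)) ≠ ⊥ := fun e => hR (by rw [← hP, e, Subgroup.map_bot])
    rcases P.isPGroup'.card_eq_or_dvd with h1 | h1
    · exact absurd (Subgroup.card_eq_one.1 h1) hPne
    · exact h1.trans (Subgroup.card_dvd_of_le hPM)
  · rw [hTmap]
    intro g hg
    refine hN g g.2 (Subgroup.mem_normalizer_fintype fun x hx => ?_)
    exact (hmemP (g * ⟨x, hx.2⟩ * g⁻¹)).1 ((Subgroup.mem_normalizer_iff.1 hg _).1 ((hmemP _).2 hx))
  · intro t htM ht2 c hct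
    have hp : IsPGroup 2 (Subgroup.zpowers (⟨t, htM⟩ : ↥M)) :=
      IsPGroup.of_card (n := 1) (by rw [Nat.card_zpowers, Subgroup.orderOf_mk, ht2, pow_one])
    obtain ⟨Q, hQ⟩ := hp.exists_le_sylow
    obtain ⟨a, ha⟩ := MulAction.exists_smul_eq ↥M Q T
    have hmem : a * ⟨t, htM⟩ * a⁻¹ ∈ (T : Subgroup ↥M) := by
      rw [← ha]
      exact Subgroup.smul_mem_pointwise_smul _ (MulAut.conj a) (Q : Subgroup ↥M) (hQ (Subgroup.mem_zpowers _))
    set a' : G := ((a : ↥(pResidual 2 G)) : G) with ha'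
    have ht' : a' * (t : G) * a'⁻¹ ∈ (S : Subgroup G) ⊓ (pResidual 2 G) :=
      (hmemP ((a : ↥(pResidual 2 G)) * t * (a : ↥(pResidual 2 G))⁻¹)).1 hmem
    have hord : orderOf (a' * (t : G) * a'⁻¹) = 2 := by
      rw [show a' * (t : G) * a'⁻¹ = MulAut.conj a' (t : G) from rfl,
        show orderOf (MulAut.conj a' (t : G)) = orderOf (t : G) from
          orderOf_injective (MulAut.conj a').toMonoidHom (MulAut.conj a').injective _, Subgroup.orderOf_coe]
      exact ht2
    have ha'W : a' ∈ Subgroup.normalizer (W : Set G) := a.2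
    have hcc : a' * (c : G) * a'⁻¹ ∈ Subgroup.centralizer {a' * (t : G) * a'⁻¹} := by
      refine Subgroup.mem_centralizer_singleton_iff.2 ?_
      have h := congrArg Subtype.val (Subgroup.mem_centralizer_singleton_iff.1 hct)
      simp only [Subgroup.coe_mul] at h
      calc a' * (c : G) * a'⁻¹ * (a' * t * a'⁻¹) = a' * ((c : G) * t) * a'⁻¹ := by group
        _ = _ := by rw [h]; group
    have := hc _ ht' hord hcc
    show (c : G) ∈ Subgroup.normalizer (W : Set G)
    have h2 := mul_mem (mul_mem (inv_mem ha'W) this) ha'W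
    rwa [show a'⁻¹ * (a' * (c : G) * a'⁻¹) * a' = c by group] at h2

omit hO' hO in
/-- Trivial odd cores at the involutions of a normal subgroup give characteristic two type. -/
theorem char_two_type (hC : ∀ t : G, orderOf t = 2 → Group.IsSolvable ↥(Subgroup.centralizer ({t} : Set G)))
    (K : Subgroup G) [K.Normal] (heven : Even (Nat.card K)) (hth : ∀ t ∈ K, orderOf t = 2 → th t = ⊥) :
    IsCharacteristicTwoType ↥K := by
  refine S0505.result heven (fun t ht => ?_) fun t ht => ?_
  · haveI := hC (t : G) (by rw [Subgroup.orderOf_coe]; exact ht)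
    let f : ↥(Subgroup.centralizer ({t} : Set ↥K)) →* ↥(Subgroup.centralizer ({(t : G)} : Set G)) :=
      { toFun := fun x => ⟨((x : ↥K) : G), Subgroup.mem_centralizer_singleton_iff.2
          (congrArg Subtype.val (Subgroup.mem_centralizer_singleton_iff.1 x.2))⟩
        map_one' := rfl
        map_mul' := fun _ _ => rfl }
    exact Group.isSolvable_of_isSolvable_injective (f := f) fun x y e =>
      Subtype.ext (Subtype.ext (congrArg Subtype.val e : _))
  · set C := Subgroup.centralizer ({t} : Set ↥K) with hCdef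
    have h0 := hth t t.2 (by rw [Subgroup.orderOf_coe]; exact ht)
    set X := (oddCore ↥C).map (K.subtype.comp C.subtype) with hX
    have hinj : Function.Injective (K.subtype.comp C.subtype) := fun x y e => Subtype.ext (Subtype.ext e)
    have hXle : X ≤ th (t : G) := by
      refine le_th ?_ ?_ ?_
      · rintro _ ⟨x, -, rfl⟩
        exact Subgroup.mem_centralizer_singleton_iff.2
          (congrArg Subtype.val (Subgroup.mem_centralizer_singleton_iff.1 x.2))
      · intro c hc
        have hct := Subgroup.mem_centralizer_singleton_iff.1 hc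
        have hcinv : c⁻¹ ∈ Subgroup.centralizer ({(t : G)} : Set G) := inv_mem hc
        have mk : ∀ d : G, d ∈ Subgroup.centralizer ({(t : G)} : Set G) → ∀ x : ↥C,
            ∃ y : ↥C, ((y : ↥K) : G) = d * ((x : ↥K) : G) * d⁻¹ := by
          intro d hd x
          refine ⟨⟨⟨d * ((x : ↥K) : G) * d⁻¹, (inferInstance : K.Normal).conj_mem _ (x : ↥K).2 d⟩,
            Subgroup.mem_centralizer_singleton_iff.2 (Subtype.ext ?_)⟩, rfl⟩
          show d * ((x : ↥K) : G) * d⁻¹ * t = t * (d * ((x : ↥K) : G) * d⁻¹)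
          have hdt : Commute d (t : G) := Subgroup.mem_centralizer_singleton_iff.1 hd
          have hxt : Commute ((x : ↥K) : G) (t : G) :=
            congrArg Subtype.val (Subgroup.mem_centralizer_singleton_iff.1 x.2)
          exact ((hdt.mul_left hxt).mul_left hdt.inv_left).eq
        choose φ hφ using mk
        let e : ↥C ≃* ↥C :=
          { toFun := φ c hc
            invFun := φ c⁻¹ hcinv
            left_inv := fun x => hinj (by
              show ((φ c⁻¹ hcinv (φ c hc x) : ↥K) : G) = ((x : ↥K) : G)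
              rw [hφ, hφ]; group)
            right_inv := fun x => hinj (by
              show ((φ c hc (φ c⁻¹ hcinv x) : ↥K) : G) = ((x : ↥K) : G)
              rw [hφ, hφ]; group)
            map_mul' := fun x y => hinj (by
              show ((φ c hc (x * y) : ↥K) : G) = ((φ c hc x : ↥K) : G) * ((φ c hc y : ↥K) : G)
              rw [hφ, hφ, hφ, Subgroup.coe_mul, Subgroup.coe_mul]; group) }
        have hfix : (oddCore ↥C).map e.toMonoidHom = oddCore ↥C :=
          Subgroup.characteristic_iff_map_eq.1 (PBasic.pPrimeCore_characteristic 2 ↥C) e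
        refine Subgroup.mem_normalizer_fintype ?_
        rintro _ ⟨x, hx, rfl⟩
        exact ⟨e x, hfix ▸ Subgroup.mem_map_of_mem e.toMonoidHom hx, hφ c hc x⟩
      · rw [hX, Subgroup.card_map_of_injective hinj]
        exact (Nat.Prime.coprime_iff_not_dvd Nat.prime_two).1
          (FittingCores.pPrimeCore_coprime (G := ↥C) 2).symm
    rw [h0, le_bot_iff, hX, Subgroup.map_eq_bot_iff_of_injective _ hinj] at hXle
    exact hXle

end Cfsg.Agent.ZCGroup
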