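import Cfsg.Agent.Lib.ZCGroup.TwoGroup
import Cfsg.Agent.S0217
import Cfsg.Agent.S1279
import Cfsg.Agent.Lib.Solvable.Coprime
import Cfsg.Agent.Lib.Signalizer.Basic
import Cfsg.Agent.Lib.Solvable.Fitting
import Cfsg.Prelude.Def_PLocal
import Cfsg.Prelude.Def_Local

/-!
The odd cores of involution centralisers and the subgroups they generate.
-/

set_option autoImplicit false

namespace Cfsg.Agent.ZCGroup

open Cfsg

variable {G : Type*} [Group G]

theorem mem_normalizer_of_map {X : Subgroup G} {g : G} (h : X.map (MulAut.conj g).toMonoidHom = X) :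
    g ∈ Subgroup.normalizer (X : Set G) := by
  refine Subgroup.mem_normalizer_iff.2 fun x => ?_
  conv_rhs => rw [← h]
  constructor
  · exact fun hx => ⟨x, hx, rfl⟩
  · rintro ⟨y, hy, e⟩
    have : y = x := by simpa using e
    exact this ▸ hy

theorem map_of_mem_normalizer {X : Subgroup G} {g : G} (h : g ∈ Subgroup.normalizer (X : Set G)) :
    X.map (MulAut.conj g).toMonoidHom = X := by
  ext x
  constructor
  · rintro ⟨y, hy, rfl⟩
    exact (Subgroup.mem_normalizer_iff.1 h y).1 hy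
  · intro hx
    refine ⟨g⁻¹ * x * g, (Subgroup.mem_normalizer_iff.1 h _).2 (by
      rwa [show g * (g⁻¹ * x * g) * g⁻¹ = x by group]), ?_⟩
    show g * (g⁻¹ * x * g) * g⁻¹ = x
    group

theorem ea_map {A : Subgroup G} (hA : IsElementaryAbelian 2 A) {K : Type*} [Group K] (f : G →* K) :
    IsElementaryAbelian 2 (A.map f) := by
  refine ⟨⟨⟨fun p q => Subtype.ext ?_⟩⟩, ?_⟩
  · obtain ⟨x, hx, hp⟩ := p.2
    obtain ⟨y, hy, hq⟩ := q.2
    show (p : K) * q = q * p
    rw [← hp, ← hq, ← map_mul, ← map_mul, Signalizer.ea_comm hA hx hy]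
  · rintro _ ⟨x, hx, rfl⟩
    rw [← map_pow, hA.2 x hx, map_one]

theorem ea_sup {A B : Subgroup G} (hA : IsElementaryAbelian 2 A) (hB : IsElementaryAbelian 2 B)
    (h : ∀ a ∈ A, ∀ b ∈ B, a * b = b * a) : IsElementaryAbelian 2 (A ⊔ B) := by
  have key : ∀ x ∈ A ⊔ B, ∃ a ∈ A, ∃ b ∈ B, x = a * b := by
    intro x hx
    have hn : A ≤ Subgroup.normalizer (B : Set G) := fun a ha => Subgroup.mem_normalizer_iff.2 fun b => by
      constructor
      · intro hb
        rw [h a ha b hb, mul_inv_cancel_right]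
        exact hb
      · intro hb
        have e := h a⁻¹ (A.inv_mem ha) _ hb
        have : b = a * b * a⁻¹ := by
          calc b = a⁻¹ * (a * b * a⁻¹) * a := by group
            _ = a * b * a⁻¹ * a⁻¹ * a := by rw [e]
            _ = _ := by group
        rwa [this]
    have hx' : x ∈ ((A ⊔ B : Subgroup G) : Set G) := hx
    rw [Subgroup.coe_mul_of_left_le_normalizer_right A B hn] at hx'
    obtain ⟨a, ha, b, hb, rfl⟩ := Set.mem_mul.1 hx'
    exact ⟨a, ha, b, hb, rfl⟩
  refine ⟨⟨⟨fun p q => Subtype.ext ?_⟩⟩, ?_⟩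
  · obtain ⟨a, ha, b, hb, hp⟩ := key p p.2
    obtain ⟨c, hc, d, hd, hq⟩ := key q q.2
    show (p : G) * q = q * p
    rw [hp, hq]
    calc a * b * (c * d) = a * (b * c) * d := by group
      _ = a * c * (b * d) := by rw [← h c hc b hb]; group
      _ = c * a * (d * b) := by rw [Signalizer.ea_comm hA ha hc, Signalizer.ea_comm hB hb hd]
      _ = c * (a * d) * b := by group
      _ = _ := by rw [h a ha d hd]; group
  · intro x hx
    obtain ⟨a, ha, b, hb, rfl⟩ := key x hx
    rw [(show Commute a b from h a ha b hb).mul_pow, hA.2 a ha, hB.2 b hb, one_mul]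

theorem mem_omega {X : Subgroup G} (hX : ∀ x ∈ X, ∀ y ∈ X, x * y = y * x) {x : G} :
    x ∈ omegaOne 2 X ↔ x ∈ X ∧ x ^ 2 = 1 := by
  refine ⟨fun hx => ?_, fun hx => Subgroup.subset_closure hx⟩
  induction hx using Subgroup.closure_induction with
  | mem y hy => exact hy
  | one => exact ⟨one_mem _, one_pow _⟩
  | mul a b _ _ ha hb =>
    exact ⟨mul_mem ha.1 hb.1, by rw [(show Commute a b from hX a ha.1 b hb.1).mul_pow, ha.2, hb.2, one_mul]⟩
  | inv a _ ha => exact ⟨inv_mem ha.1, by rw [inv_pow, ha.2, inv_one]⟩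

theorem omega_le {X : Subgroup G} (p : ℕ) : omegaOne p X ≤ X :=
  (Subgroup.closure_le _).2 fun _ hx => hx.1

theorem inf_centralizer_comm {X : Subgroup G} : ∀ x ∈ X ⊓ Subgroup.centralizer (X : Set G),
    ∀ y ∈ X ⊓ Subgroup.centralizer (X : Set G), x * y = y * x :=
  fun _ hx y hy => (Subgroup.mem_centralizer_iff.1 hx.2 y hy.1).symm

theorem omega_ea {X : Subgroup G} (hX : ∀ x ∈ X, ∀ y ∈ X, x * y = y * x) :
    IsElementaryAbelian 2 (omegaOne 2 X) :=
  ⟨⟨⟨fun p q => Subtype.ext (hX _ ((mem_omega hX).1 p.2).1 _ ((mem_omega hX).1 q.2).1)⟩⟩,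
    fun _ hx => ((mem_omega hX).1 hx).2⟩

/-- An elementary abelian group of order less than eight has order at most four. -/
theorem card_le_four [Finite G] {A : Subgroup G} (hA : IsElementaryAbelian 2 A) (h : Nat.card A < 8) :
    Nat.card A ≤ 4 := by
  haveI : Fact (Nat.Prime 2) := ⟨Nat.prime_two⟩
  obtain ⟨k, hk⟩ := IsPGroup.iff_card.1 (Signalizer.ea_isPGroup hA)
  rw [hk] at h ⊢
  rcases k with _ | _ | _ | k
  · norm_num
  · norm_num
  · norm_num
  · exfalso
    rw [pow_succ, pow_succ, pow_succ] at h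
    have := Nat.two_pow_pos k
    omega

theorem card_le_two_mul [Finite G] {C A : Subgroup G}
    (h : ∀ b ∈ A, ∀ c ∈ A, b ∉ C → c ∉ C → b⁻¹ * c ∈ C) : Nat.card A ≤ 2 * Nat.card C := by
  classical
  by_cases hA : A ≤ C
  · exact (Subgroup.card_le_of_le hA).trans (by omega)
  obtain ⟨b, hb, hbC⟩ := SetLike.not_le_iff_exists.1 hA
  let f : A → Bool × C := fun c =>
    if hc : (c : G) ∈ C then (false, ⟨c, hc⟩) else (true, ⟨b⁻¹ * c, h b hb c c.2 hbC hc⟩)
  have hf : Function.Injective f := by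
    intro x y hxy
    simp only [f] at hxy
    split_ifs at hxy with hx hy hy
    all_goals simp only [Prod.mk.injEq, Bool.true_eq_false, Bool.false_eq_true, false_and, true_and,
      Subtype.mk.injEq] at hxy
    · exact Subtype.ext hxy
    · exact Subtype.ext (mul_left_cancel hxy)
  refine (Nat.card_le_card_of_injective f hf).trans (le_of_eq ?_)
  rw [Nat.card_prod]
  simp

/-! ### odd cores of centralisers -/

/-- The odd core of the centraliser of `a`. -/
noncomputable abbrev th (a : G) : Subgroup G := centralizerPPrimeCore 2 a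

theorem th_le (a : G) : th a ≤ Subgroup.centralizer {a} := Subgroup.map_subtype_le _

variable [Finite G]

theorem th_odd (a : G) : ¬ 2 ∣ Nat.card (th a) := by
  rw [th, centralizerPPrimeCore, Subgroup.card_map_of_injective (Subgroup.subtype_injective _)]
  exact (Nat.Prime.coprime_iff_not_dvd Nat.prime_two).1
    (FittingCores.pPrimeCore_coprime (G := ↥(Subgroup.centralizer ({a} : Set G))) 2).symm

theorem centralizer_le_normalizer_th (a : G) :
    Subgroup.centralizer {a} ≤ Subgroup.normalizer (th a : Set G) := by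
  intro g hg
  refine Subgroup.mem_normalizer_fintype ?_
  rintro _ ⟨y, hy, rfl⟩
  exact ⟨⟨g, hg⟩ * y * ⟨g, hg⟩⁻¹, (FittingCores.pPrimeCore_normal 2).conj_mem y hy _, rfl⟩

theorem le_th {a : G} {X : Subgroup G} (hX : X ≤ Subgroup.centralizer {a})
    (hn : Subgroup.centralizer {a} ≤ Subgroup.normalizer (X : Set G)) (hodd : ¬ 2 ∣ Nat.card X) : X ≤ th a := by
  intro x hx
  refine ⟨⟨x, hX hx⟩, ?_, rfl⟩
  have h1 : X.subgroupOf (Subgroup.centralizer {a}) ≤ pPrimeCore 2 ↥(Subgroup.centralizer ({a} : Set G)) := by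
    refine le_sSup ⟨Subgroup.normal_subgroupOf_of_le_normalizer hn, ?_⟩
    rw [Nat.card_congr (Subgroup.subgroupOfEquivOfLe hX).toEquiv]
    exact ((Nat.Prime.coprime_iff_not_dvd Nat.prime_two).2 hodd).symm
  exact h1 hx

theorem th_conj (g a : G) : th (g * a * g⁻¹) = (th a).map (MulAut.conj g).toMonoidHom := by
  have key : ∀ g a : G, (th a).map (MulAut.conj g).toMonoidHom ≤ th (g * a * g⁻¹) := by
    intro g a
    refine le_th ?_ ?_ ?_
    · rintro _ ⟨x, hx, rfl⟩
      have h := Subgroup.mem_centralizer_singleton_iff.1 (th_le a hx)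
      refine Subgroup.mem_centralizer_singleton_iff.2 ?_
      show g * x * g⁻¹ * (g * a * g⁻¹) = g * a * g⁻¹ * (g * x * g⁻¹)
      rw [show g * x * g⁻¹ * (g * a * g⁻¹) = g * (x * a) * g⁻¹ by group, h]
      group
    · intro c hc
      refine Subgroup.mem_normalizer_fintype ?_
      rintro _ ⟨x, hx, rfl⟩
      have hc' : g⁻¹ * c * g ∈ Subgroup.centralizer {a} := by
        refine Subgroup.mem_centralizer_singleton_iff.2 ?_
        have h := Subgroup.mem_centralizer_singleton_iff.1 hc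
        calc g⁻¹ * c * g * a = g⁻¹ * (c * (g * a * g⁻¹)) * g := by group
          _ = _ := by rw [h]; group
      exact ⟨_, (Subgroup.mem_normalizer_iff.1 (centralizer_le_normalizer_th a hc') x).1 hx, by simp [mul_assoc]⟩
    · rw [Subgroup.card_map_of_injective (MulAut.conj g).injective]
      exact th_odd a
  refine le_antisymm (fun x hx => ?_) (key g a)
  have := key g⁻¹ (g * a * g⁻¹) ⟨x, hx, rfl⟩
  rw [show g⁻¹ * (g * a * g⁻¹) * g⁻¹⁻¹ = a by group] at this
  exact ⟨_, this, by simp [mul_assoc]⟩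

/-! ### the generated subgroup -/

/-- The subgroup generated by the odd cores over the nonidentity elements of `A`. -/
noncomputable def sig (A : Subgroup G) : Subgroup G := ⨆ a : {a : G // a ∈ A ∧ a ≠ 1}, th (a : G)

theorem th_le_sig {A : Subgroup G} {a : G} (ha : a ∈ A) (ha1 : a ≠ 1) : th a ≤ sig A :=
  le_iSup (fun a : {a : G // a ∈ A ∧ a ≠ 1} => th (a : G)) ⟨a, ha, ha1⟩

omit [Finite G] in
theorem sig_mono {A B : Subgroup G} (h : A ≤ B) : sig A ≤ sig B :=
  iSup_le fun a => le_iSup (fun b : {b : G // b ∈ B ∧ b ≠ 1} => th (b : G)) ⟨a, h a.2.1, a.2.2⟩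

theorem sig_map (A : Subgroup G) (g : G) :
    sig (A.map (MulAut.conj g).toMonoidHom) = (sig A).map (MulAut.conj g).toMonoidHom := by
  refine le_antisymm (iSup_le ?_) ?_
  · rintro ⟨_, ⟨a, ha, rfl⟩, hb1⟩
    show th ((MulAut.conj g).toMonoidHom a) ≤ _
    rw [show (MulAut.conj g).toMonoidHom a = g * a * g⁻¹ from rfl, th_conj]
    exact Subgroup.map_mono (th_le_sig ha fun e => hb1 (by simp [e]))
  · rw [sig, Subgroup.map_iSup]
    refine iSup_le fun a => ?_
    rw [← th_conj]
    exact th_le_sig ⟨a, a.2.1, rfl⟩ fun e => a.2.2 (conj_eq_one_iff.1 e)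

section Functor

variable (hC : ∀ t : G, orderOf t = 2 → Group.IsSolvable ↥(Subgroup.centralizer ({t} : Set G)))
include hC

theorem solvable_of_mem {A : Subgroup G} (hA : IsElementaryAbelian 2 A) {a : G} (ha : a ∈ A) (ha1 : a ≠ 1) :
    Group.IsSolvable ↥(Subgroup.centralizer ({a} : Set G)) :=
  haveI : Fact (Nat.Prime 2) := ⟨Nat.prime_two⟩
  hC a (Signalizer.ea_orderOf hA ha ha1)

theorem sig_spec {A : Subgroup G} (hA : IsElementaryAbelian 2 A) (h8 : 8 ≤ Nat.card A) :
    ¬ 2 ∣ Nat.card (sig A) ∧ ∀ a ∈ A, a ≠ 1 → sig A ⊓ Subgroup.centralizer {a} = th a := by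
  haveI : Fact (Nat.Prime 2) := ⟨Nat.prime_two⟩
  obtain ⟨⟨hle, hcop, hinv, hbal⟩, hsol⟩ := S1279.result 2 A hA (by omega) (fun a ha ha1 => solvable_of_mem hC hA ha ha1)
  exact S0217.result A (fun a ha b hb => Signalizer.ea_comm hA ha hb) hA.2 (by omega) th hle hcop hinv hsol hbal

theorem balance {t z : G} (ht : orderOf t = 2) (hz : orderOf z = 2) (h : t * z = z * t) :
    th t ⊓ Subgroup.centralizer {z} ≤ th z := by
  by_cases htz : t = z
  · exact htz ▸ inf_le_left
  haveI : Fact (Nat.Prime 2) := ⟨Nat.prime_two⟩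
  have ht2 : t * t = 1 := by rw [← pow_two, ← ht, pow_orderOf_eq_one]
  have hz2 : z * z = 1 := by rw [← pow_two, ← hz, pow_orderOf_eq_one]
  have ht1 : t ≠ 1 := fun e => by rw [e, orderOf_one] at ht; omega
  have hz1 : z ≠ 1 := fun e => by rw [e, orderOf_one] at hz; omega
  obtain ⟨F, htF, hzF, hF4, hFe, -⟩ := exists_four h ht2 hz2 ht1 hz1 htz
  obtain ⟨⟨-, -, -, hbal⟩, -⟩ := S1279.result 2 F hFe (by omega) (fun a ha ha1 => solvable_of_mem hC hFe ha ha1)
  exact hbal t htF ht1 z hzF hz1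

theorem le_normalizer_sig {A : Subgroup G} (hA : IsElementaryAbelian 2 A) :
    A ≤ Subgroup.normalizer (sig A : Set G) := fun a ha => by
  refine mem_normalizer_of_map ?_
  rw [← sig_map, map_of_mem_normalizer (Subgroup.le_normalizer ha)]

/-- Any four-subgroup generates the same. -/
theorem sig_eq {A F : Subgroup G} (hA : IsElementaryAbelian 2 A) (h8 : 8 ≤ Nat.card A) (hFA : F ≤ A)
    (h4 : 4 ≤ Nat.card F) : sig F = sig A := by
  haveI : Fact (Nat.Prime 2) := ⟨Nat.prime_two⟩
  refine le_antisymm (sig_mono hFA) ?_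
  obtain ⟨hodd, heq⟩ := sig_spec hC hA h8
  have hFe : IsElementaryAbelian 2 F := Signalizer.ea_mono hA hFA
  haveI : IsMulCommutative F := hFe.1
  have := CoprimeAct.generated_by_centralizers (A := F) (K := sig A) (Signalizer.ea_not_isCyclic hFe (by omega))
    (hFA.trans (le_normalizer_sig hC hA)) (Signalizer.coprime_card (Signalizer.ea_isPGroup hFe) hodd)
  rw [← this]
  refine iSup₂_le fun a ha => ?_
  rw [heq a (hFA ha.1) ha.2]
  exact th_le_sig ha.1 ha.2

end Functor

end Cfsg.Agent.ZCGroup
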