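import Cfsg.Agent.Lib.ZCGroup.Residual

/-!
Involutions conjugate to the central one when `Ω₁(Z(S))` has order two.
-/

set_option autoImplicit false

namespace Cfsg.Agent.ZCGroup

open Cfsg

variable {G : Type*} [Group G] [Finite G]

/-- A two-element normalising a Sylow subgroup lies in it. -/
theorem mem_of_normalizes {S : Sylow 2 G} {x : G} (hn : x ∈ Subgroup.normalizer ((S : Subgroup G) : Set G))
    (hx : IsPGroup 2 (Subgroup.zpowers x)) : x ∈ (S : Subgroup G) := by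
  haveI : Fact (Nat.Prime 2) := ⟨Nat.prime_two⟩
  have hU := hx.to_sup_of_normal_right' S.isPGroup' (Subgroup.zpowers_le.2 hn)
  rw [← S.3 hU le_sup_right]
  exact Subgroup.mem_sup_left (Subgroup.mem_zpowers x)

theorem isPGroup_zpowers_of_mem {S : Sylow 2 G} {x : G} (hx : x ∈ (S : Subgroup G)) :
    IsPGroup 2 (Subgroup.zpowers x) := S.isPGroup'.to_le (Subgroup.zpowers_le.2 hx)

theorem isPGroup_zpowers_of_sq {x : G} (hx : x * x = 1) : IsPGroup 2 (Subgroup.zpowers x) :=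
  IsPGroup.of_card_dvd_pow (n := 1) (by rw [Nat.card_zpowers, pow_one]; exact orderOf_dvd_of_pow_eq_one (by rw [pow_two, hx]))

/-- An element of an odd subgroup and of a conjugate of `S` is trivial. -/
theorem eq_one_of_odd {S : Sylow 2 G} {W : Subgroup G} (hW : ¬ 2 ∣ Nat.card W) {g x : G} (hxW : x ∈ W)
    (hxS : g⁻¹ * x * g ∈ (S : Subgroup G)) : x = 1 := by
  haveI : Fact (Nat.Prime 2) := ⟨Nat.prime_two⟩
  obtain ⟨k, hk⟩ := IsPGroup.iff_orderOf.1 S.isPGroup' ⟨_, hxS⟩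
  rw [Subgroup.orderOf_mk, show g⁻¹ * x * g = (MulAut.conj g⁻¹).toMonoidHom x by simp,
    orderOf_injective (MulAut.conj g⁻¹).toMonoidHom (MulAut.conj g⁻¹).injective x] at hk
  have hd : orderOf x ∣ Nat.card W := Subgroup.orderOf_dvd_natCard _ hxW
  rcases Nat.eq_zero_or_pos k with rfl | hk0
  · exact orderOf_eq_one_iff.1 (by simpa using hk)
  · exact absurd ((dvd_pow_self 2 (by omega : k ≠ 0)).trans (hk ▸ hd)) hW

/-- The only nontrivial element of `Ω₁(Z(S))`. -/
def OnlyZ (S : Sylow 2 G) (z : G) : Prop := z ∈ Zof S ∧ z ≠ 1 ∧ ∀ w ∈ Zof S, w = 1 ∨ w = z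

variable {S : Sylow 2 G} {z : G}

theorem OnlyZ.sq (h : OnlyZ S z) : z * z = 1 := by rw [← pow_two]; exact (mem_Zof.1 h.1).2.2

theorem OnlyZ.order (h : OnlyZ S z) : orderOf z = 2 :=
  haveI : Fact (Nat.Prime 2) := ⟨Nat.prime_two⟩
  orderOf_eq_prime (mem_Zof.1 h.1).2.2 h.2.1

variable (D : Hyp G)
include D

theorem OnlyZ.centralizer_le (h : OnlyZ S z) :
    Subgroup.centralizer {z} ≤ Subgroup.normalizer ((S : Subgroup G) : Set G) := by
  refine fun g hg => D.hZ S (Subgroup.mem_centralizer_iff.2 fun w hw => ?_)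
  rcases h.2.2 w hw with rfl | rfl
  · rw [one_mul, mul_one]
  · exact (Subgroup.mem_centralizer_singleton_iff.1 hg).symm

/-- A subgroup of odd order normalised by `z` has its part centralising a conjugate of `z` centralised by `z`. -/
theorem OnlyZ.inf_le (h : OnlyZ S z) {g : G} (ht : g * z * g⁻¹ ∈ (S : Subgroup G)) {W : Subgroup G}
    (hW : ¬ 2 ∣ Nat.card W) (hn : z ∈ Subgroup.normalizer (W : Set G)) :
    W ⊓ Subgroup.centralizer {g * z * g⁻¹} ≤ Subgroup.centralizer {z} := by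
  intro x hx
  have hin : ∀ y : G, y * (g * z * g⁻¹) = g * z * g⁻¹ * y → g⁻¹ * y * g ∈ Subgroup.centralizer {z} := fun y hy => by
    refine Subgroup.mem_centralizer_singleton_iff.2 ?_
    calc g⁻¹ * y * g * z = g⁻¹ * (y * (g * z * g⁻¹)) * g := by group
      _ = _ := by rw [hy]; group
  have hzc : z * (g * z * g⁻¹) = g * z * g⁻¹ * z := ((mem_Zof.1 h.1).2.1 _ ht).symm
  have hzS : g⁻¹ * z * g ∈ (S : Subgroup G) := by
    refine mem_of_normalizes (h.centralizer_le D (hin z hzc)) (isPGroup_zpowers_of_sq ?_)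
    rw [show g⁻¹ * z * g * (g⁻¹ * z * g) = g⁻¹ * (z * z) * g by group, h.sq]; group
  have hxn := h.centralizer_le D (hin x (Subgroup.mem_centralizer_singleton_iff.1 hx.2))
  have hc : x * z * x⁻¹ * z⁻¹ = 1 := by
    refine eq_one_of_odd (S := S) (g := g) hW ?_ ?_
    · rw [show x * z * x⁻¹ * z⁻¹ = x * (z * x⁻¹ * z⁻¹) by group]
      exact W.mul_mem hx.1 ((Subgroup.mem_normalizer_iff.1 hn _).1 (W.inv_mem hx.1))
    · rw [show g⁻¹ * (x * z * x⁻¹ * z⁻¹) * g = g⁻¹ * x * g * (g⁻¹ * z * g) * (g⁻¹ * x * g)⁻¹ * (g⁻¹ * z * g)⁻¹ by group]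
      exact (S : Subgroup G).mul_mem ((Subgroup.mem_normalizer_iff.1 hxn _).1 hzS) ((S : Subgroup G).inv_mem hzS)
  exact Subgroup.mem_centralizer_singleton_iff.2 (mul_inv_eq_iff_eq_mul.1 (mul_inv_eq_one.1 hc))

/-- Conjugates of `z` in `S` have the odd core of `z`. -/
theorem OnlyZ.th_eq (h : OnlyZ S z) {g : G} (ht : g * z * g⁻¹ ∈ (S : Subgroup G)) :
    th (g * z * g⁻¹) = th z := by
  have hord : orderOf (g * z * g⁻¹) = 2 := by
    rw [show g * z * g⁻¹ = (MulAut.conj g).toMonoidHom z from rfl,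
      orderOf_injective (MulAut.conj g).toMonoidHom (MulAut.conj g).injective z, h.order]
  have hcomm := (mem_Zof.1 h.1).2.1 _ ht
  refine le_antisymm (fun x hx => ?_) (fun x hx => ?_)
  · refine balance D.hC hord h.order hcomm ⟨hx, h.inf_le D ht (th_odd _) ?_ ⟨hx, th_le _ hx⟩⟩
    exact centralizer_le_normalizer_th _ (Subgroup.mem_centralizer_singleton_iff.2 hcomm.symm)
  · refine balance D.hC h.order hord hcomm.symm ⟨hx, ?_⟩
    -- the odd core of `z` centralises `S`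
    have hxn := h.centralizer_le D (th_le _ hx)
    have hc : x * (g * z * g⁻¹) * x⁻¹ * (g * z * g⁻¹)⁻¹ = 1 := by
      refine eq_one_of_odd (S := S) (g := 1) (th_odd z) ?_ ?_
      · rw [show ∀ s : G, x * s * x⁻¹ * s⁻¹ = x * (s * x⁻¹ * s⁻¹) from fun s => by group]
        have hn := centralizer_le_normalizer_th z (Subgroup.mem_centralizer_singleton_iff.2 hcomm)
        exact mul_mem hx ((Subgroup.mem_normalizer_iff.1 hn _).1 (inv_mem hx))
      · rw [inv_one, one_mul, mul_one]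
        exact (S : Subgroup G).mul_mem ((Subgroup.mem_normalizer_iff.1 hxn _).1 ht) ((S : Subgroup G).inv_mem ht)
    exact Subgroup.mem_centralizer_singleton_iff.2 (mul_inv_eq_iff_eq_mul.1 (mul_inv_eq_one.1 hc))

end Cfsg.Agent.ZCGroup
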