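import Cfsg.Agent.Lib.ZCGroup.Basic

/-!
Two-subgroups of rank three in a group whose central involutions have two-closed centralisers: the odd cores generate
a subgroup whose normaliser contains their centralisers.
-/

set_option autoImplicit false

namespace Cfsg.Agent.ZCGroup

open Cfsg

variable {G : Type*} [Group G] [Finite G]

/-- The hypotheses: solvable involution centralisers, `C(Ω₁(Z(S))) ≤ N(S)`. -/
structure Hyp (G : Type*) [Group G] : Prop where
  hC : ∀ t : G, orderOf t = 2 → Group.IsSolvable ↥(Subgroup.centralizer ({t} : Set G))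
  hZ : ∀ S : Sylow 2 G, Subgroup.centralizer
      (omegaOne 2 ((S : Subgroup G) ⊓ Subgroup.centralizer ((S : Subgroup G) : Set G)) : Set G) ≤
    Subgroup.normalizer ((S : Subgroup G) : Set G)

/-- The central involutions of a Sylow subgroup. -/
def Zof (S : Sylow 2 G) : Subgroup G :=
  omegaOne 2 ((S : Subgroup G) ⊓ Subgroup.centralizer ((S : Subgroup G) : Set G))

/-- An elementary abelian subgroup of order at least eight of the Sylow subgroup. -/
def Big (S : Sylow 2 G) (A : Subgroup G) : Prop :=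
  A ≤ (S : Subgroup G) ∧ IsElementaryAbelian 2 A ∧ 8 ≤ Nat.card A

omit [Finite G] in
theorem mem_Zof {S : Sylow 2 G} {x : G} :
    x ∈ Zof S ↔ x ∈ (S : Subgroup G) ∧ (∀ s ∈ (S : Subgroup G), s * x = x * s) ∧ x ^ 2 = 1 := by
  rw [Zof, mem_omega inf_centralizer_comm, Subgroup.mem_inf, Subgroup.mem_centralizer_iff, and_assoc]
  rfl

omit [Finite G] in
theorem Zof_le (S : Sylow 2 G) : Zof S ≤ (S : Subgroup G) := fun _ hx => (mem_Zof.1 hx).1

omit [Finite G] in
theorem Zof_ea (S : Sylow 2 G) : IsElementaryAbelian 2 (Zof S) := omega_ea inf_centralizer_comm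

theorem Big.sup_Zof {S : Sylow 2 G} {A : Subgroup G} (hA : Big S A) : Big S (A ⊔ Zof S) :=
  ⟨sup_le hA.1 (Zof_le S), ea_sup hA.2.1 (Zof_ea S) fun a ha b hb => (mem_Zof.1 hb).2.1 a (hA.1 ha),
    hA.2.2.trans (Subgroup.card_le_of_le le_sup_left)⟩

theorem exists_mem_Zof {S : Sylow 2 G} {N : Subgroup G} (hN : N ≤ (S : Subgroup G))
    (hn : (S : Subgroup G) ≤ Subgroup.normalizer (N : Set G)) (h1 : N ≠ ⊥) :
    ∃ z ∈ N, z ≠ 1 ∧ z ∈ Zof S := by
  haveI : (N.subgroupOf (S : Subgroup G)).Normal := Subgroup.normal_subgroupOf_of_le_normalizer hn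
  obtain ⟨z, hz, hzo, hzc⟩ := NormalFour.exists_central_mem (N := N.subgroupOf (S : Subgroup G)) S.isPGroup'
    (fun e => h1 (by
      have := congrArg (Subgroup.map (S : Subgroup G).subtype) e
      rwa [Subgroup.map_subgroupOf_eq_of_le hN, Subgroup.map_bot] at this))
  refine ⟨z, hz, fun e => ?_, mem_Zof.2 ⟨z.2, fun s hs => ?_, ?_⟩⟩
  · rw [Subtype.ext (a2 := (1 : ↥(S : Subgroup G))) e, orderOf_one] at hzo
    omega
  · exact congrArg Subtype.val (Subgroup.mem_center_iff.1 hzc ⟨s, hs⟩)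
  · exact orderOf_dvd_iff_pow_eq_one.1 (by rw [Subgroup.orderOf_coe, hzo])

/-- A normal four-subgroup sees at most two classes of actions. -/
theorem four_centralizer {S : Sylow 2 G} {V : Subgroup G} (hVS : V ≤ (S : Subgroup G))
    (hVn : (S : Subgroup G) ≤ Subgroup.normalizer (V : Set G)) (hV4 : Nat.card V = 4) (hVe : IsElementaryAbelian 2 V)
    {b c : G} (hb : b ∈ (S : Subgroup G)) (hc : c ∈ (S : Subgroup G))
    (hbV : b ∉ Subgroup.centralizer (V : Set G)) (hcV : c ∉ Subgroup.centralizer (V : Set G)) :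
    b⁻¹ * c ∈ Subgroup.centralizer (V : Set G) := by
  obtain ⟨w, hwV, hw1, hwZ⟩ := exists_mem_Zof hVS hVn (fun e => by rw [e, Subgroup.card_bot] at hV4; omega)
  have hwc := (mem_Zof.1 hwZ).2.1
  obtain ⟨v, hv, hv1, hvw⟩ : ∃ v ∈ V, v ≠ 1 ∧ v ≠ w := by
    by_contra hno
    push Not at hno
    have hsub : (V : Set G) ⊆ {1, w} := fun x hx => by
      by_cases h : x = 1
      · exact Or.inl h
      · exact Or.inr (hno x hx h)
    have := Set.ncard_le_ncard hsub
    rw [← Nat.card_coe_set_eq] at this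
    have h2 := (Set.ncard_insert_le (1 : G) {w}).trans (by rw [Set.ncard_singleton])
    change Nat.card V ≤ _ at this
    omega
  have sq : ∀ x ∈ V, x * x = 1 := fun x hx => by rw [← pow_two]; exact hVe.2 x hx
  obtain ⟨F, hwF, hvF, hF4, -, hF⟩ :=
    exists_four (Signalizer.ea_comm hVe hwV hv) (sq w hwV) (sq v hv) hw1 hv1 (Ne.symm hvw)
  have hFV : F ≤ V := fun x hx => by
    rcases hF x hx with rfl | rfl | rfl | rfl
    · exact V.one_mem
    · exact hwV
    · exact hv
    · exact V.mul_mem hwV hv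
  have hVF : F = V := Subgroup.eq_of_le_of_card_ge hFV (by omega)
  have fix : ∀ g ∈ (S : Subgroup G), g * v = v * g → g ∈ Subgroup.centralizer (V : Set G) := by
    intro g hg hgv
    refine Subgroup.mem_centralizer_iff.2 fun x hx => ?_
    rcases hF x (hVF ▸ hx) with rfl | rfl | rfl | rfl
    · rw [one_mul, mul_one]
    · exact (hwc g hg).symm
    · exact hgv.symm
    · rw [mul_assoc, ← hgv, ← mul_assoc, ← hwc g hg, mul_assoc]
  have move : ∀ g ∈ (S : Subgroup G), g ∉ Subgroup.centralizer (V : Set G) → g * v * g⁻¹ = w * v := by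
    intro g hg hgV
    have hm := (Subgroup.mem_normalizer_iff.1 (hVn hg) v).1 hv
    rcases hF _ (hVF ▸ hm) with h | h | h | h
    · exact absurd (conj_eq_one_iff.1 h) hv1
    · refine absurd ?_ hvw
      calc v = g⁻¹ * (g * v * g⁻¹) * g := by group
        _ = g⁻¹ * (g * w) := by rw [h, hwc g hg, mul_assoc]
        _ = w := by group
    · exact absurd (fix g hg (mul_inv_eq_iff_eq_mul.1 h)) hgV
    · exact h
  refine fix _ ((S : Subgroup G).mul_mem ((S : Subgroup G).inv_mem hb) hc) ?_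
  have h1 := move b hb hbV
  have h2 := move c hc hcV
  calc b⁻¹ * c * v = b⁻¹ * (c * v * c⁻¹) * c := by group
    _ = b⁻¹ * (b * v * b⁻¹) * c := by rw [h2, h1]
    _ = _ := by group

/-- A normal four-subgroup and any big subgroup meet a common big subgroup in four-groups. -/
theorem Big.exists_link {S : Sylow 2 G} {A : Subgroup G} (hA : Big S A) {V : Subgroup G} (hVS : V ≤ (S : Subgroup G))
    (hVn : (S : Subgroup G) ≤ Subgroup.normalizer (V : Set G)) (hV4 : Nat.card V = 4) (hVe : IsElementaryAbelian 2 V) :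
    ∃ A', Big S A' ∧ V ≤ A' ∧ 4 ≤ Nat.card (A ⊓ A' : Subgroup G) := by
  set C := A ⊓ Subgroup.centralizer (V : Set G) with hC
  have hcard : Nat.card A ≤ 2 * Nat.card C := by
    refine card_le_two_mul fun b hb c hc hbC hcC => ⟨A.mul_mem (A.inv_mem hb) hc, ?_⟩
    exact four_centralizer hVS hVn hV4 hVe (hA.1 hb) (hA.1 hc) (fun h => hbC ⟨hb, h⟩) (fun h => hcC ⟨hc, h⟩)
  have hea : IsElementaryAbelian 2 (C ⊔ V) := ea_sup (Signalizer.ea_mono hA.2.1 inf_le_left) hVe
    fun a ha b hb => (Subgroup.mem_centralizer_iff.1 ha.2 b hb).symm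
  by_cases h8 : 8 ≤ Nat.card (C ⊔ V : Subgroup G)
  · refine ⟨C ⊔ V, ⟨sup_le (inf_le_left.trans hA.1) hVS, hea, h8⟩, le_sup_right, ?_⟩
    have := Subgroup.card_le_of_le (le_inf inf_le_left le_sup_left : C ≤ A ⊓ (C ⊔ V))
    have := hA.2.2
    omega
  · have h4 := card_le_four hea (Nat.lt_of_not_le h8)
    have e1 : C = C ⊔ V := Subgroup.eq_of_le_of_card_ge le_sup_left (by have := hA.2.2; omega)
    have hVA : V ≤ A := le_sup_right.trans (e1.symm.le.trans inf_le_left)
    refine ⟨A, hA, hVA, ?_⟩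
    rw [inf_idem]
    have := hA.2.2
    omega

theorem Big.exists_four {S : Sylow 2 G} {A : Subgroup G} (hA : Big S A) :
    ∃ V : Subgroup G, V ≤ (S : Subgroup G) ∧ (S : Subgroup G) ≤ Subgroup.normalizer (V : Set G) ∧ Nat.card V = 4 ∧
      IsElementaryAbelian 2 V := by
  haveI : Fact (Nat.Prime 2) := ⟨Nat.prime_two⟩
  obtain ⟨k, hk⟩ := IsPGroup.iff_card.1 (Signalizer.ea_isPGroup hA.2.1)
  have h8 : 2 ^ 3 ∣ Nat.card (A.subgroupOf (S : Subgroup G)) := by
    rw [Nat.card_congr (Subgroup.subgroupOfEquivOfLe hA.1).toEquiv, hk]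
    refine pow_dvd_pow 2 ?_
    by_contra hlt
    have := hA.2.2
    rw [hk] at this
    have := Nat.pow_le_pow_right two_pos (show k ≤ 2 by omega)
    omega
  obtain ⟨E, hE⟩ := Sylow.exists_subgroup_card_pow_prime 2 h8
  obtain ⟨V, hVn, hV4, hV2⟩ := NormalFour.exists_normal_four (S := ↥(S : Subgroup G)) S.isPGroup'
    (E := E.map (A.subgroupOf (S : Subgroup G)).subtype)
    (by rw [Subgroup.card_map_of_injective (Subgroup.subtype_injective _), hE]; norm_num)
    (by
      rintro _ ⟨e, -, rfl⟩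
      refine Subtype.ext ?_
      show ((e : ↥(S : Subgroup G)) : G) * ((e : ↥(S : Subgroup G)) : G) = 1
      rw [← pow_two]
      exact hA.2.1.2 _ e.2)
  haveI : IsMulCommutative V := by
    refine ⟨⟨fun p q => ?_⟩⟩
    have h := hV2 _ (V.mul_mem p.2 q.2)
    have hp : (p : ↥(S : Subgroup G))⁻¹ = p := inv_eq_of_mul_eq_one_right (hV2 _ p.2)
    have hq : (q : ↥(S : Subgroup G))⁻¹ = q := inv_eq_of_mul_eq_one_right (hV2 _ q.2)
    refine Subtype.ext ?_
    show (p : ↥(S : Subgroup G)) * q = q * p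
    conv_lhs => rw [← inv_eq_of_mul_eq_one_right h, mul_inv_rev, hp, hq]
  refine ⟨V.map (S : Subgroup G).subtype, Subgroup.map_subtype_le _, fun s hs => ?_, ?_,
    ea_map ⟨inferInstance, fun x hx => by rw [pow_two]; exact hV2 x hx⟩ _⟩
  · refine Subgroup.mem_normalizer_fintype ?_
    rintro _ ⟨v, hv, rfl⟩
    exact ⟨⟨s, hs⟩ * v * ⟨s, hs⟩⁻¹, hVn.conj_mem v hv _, rfl⟩
  · rw [Subgroup.card_map_of_injective (Subgroup.subtype_injective _), hV4]

variable (D : Hyp G)
include D

theorem Big.sig_four {S : Sylow 2 G} {A : Subgroup G} (hA : Big S A) {V : Subgroup G} (hVS : V ≤ (S : Subgroup G))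
    (hVn : (S : Subgroup G) ≤ Subgroup.normalizer (V : Set G)) (hV4 : Nat.card V = 4) (hVe : IsElementaryAbelian 2 V) :
    sig V = sig A := by
  obtain ⟨A', hA', hVA', h4⟩ := hA.exists_link hVS hVn hV4 hVe
  rw [sig_eq D.hC hA'.2.1 hA'.2.2 hVA' (by omega), ← sig_eq D.hC hA'.2.1 hA'.2.2 inf_le_right h4,
    sig_eq D.hC hA.2.1 hA.2.2 inf_le_left h4]

/-- All big subgroups of a Sylow subgroup generate the same. -/
theorem Big.sig_eq_sig {S : Sylow 2 G} {A B : Subgroup G} (hA : Big S A) (hB : Big S B) : sig A = sig B := by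
  obtain ⟨V, hVS, hVn, hV4, hVe⟩ := hA.exists_four
  rw [← hA.sig_four D hVS hVn hV4 hVe, hB.sig_four D hVS hVn hV4 hVe]

theorem Big.normalizer_le {S : Sylow 2 G} {A : Subgroup G} (hA : Big S A) :
    Subgroup.normalizer ((S : Subgroup G) : Set G) ≤ Subgroup.normalizer (sig A : Set G) := by
  intro g hg
  refine mem_normalizer_of_map ?_
  rw [← sig_map]
  refine (Big.sig_eq_sig D ⟨?_, ea_map hA.2.1 _, ?_⟩ hA)
  · rintro _ ⟨a, ha, rfl⟩
    exact (Subgroup.mem_normalizer_iff.1 hg a).1 (hA.1 ha)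
  · rw [Subgroup.card_map_of_injective (MulAut.conj g).injective]
    exact hA.2.2

/-- **The centralisers of the involutions in big subgroups normalise the generated subgroup.** -/
theorem Big.centralizer_le {S : Sylow 2 G} {A : Subgroup G} (hA : Big S A) {t : G} (ht : t ∈ A) (ht1 : t ≠ 1) :
    Subgroup.centralizer {t} ≤ Subgroup.normalizer (sig A : Set G) := by
  classical
  haveI : Fact (Nat.Prime 2) := ⟨Nat.prime_two⟩
  set C := Subgroup.centralizer ({t} : Set G) with hCdef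
  have hAC : A ≤ C := Signalizer.ea_le_centralizer_singleton hA.2.1 ht
  obtain ⟨T, hT⟩ := ((Signalizer.ea_isPGroup hA.2.1).comap_subtype (K := C)).exists_le_sylow
  obtain ⟨S', hS'⟩ := (T.isPGroup'.map C.subtype).exists_le_sylow
  have hA' : Big S' A := ⟨fun a ha => hS' ⟨⟨a, hAC ha⟩, hT ha, rfl⟩, hA.2⟩
  have htS' : t ∈ (S' : Subgroup G) := hA'.1 ht
  have hTS : ∀ x : ↥C, x ∈ (T : Subgroup ↥C) ↔ (x : G) ∈ (S' : Subgroup G) := by
    intro x
    refine ⟨fun hx => hS' ⟨x, hx, rfl⟩, fun hx => ?_⟩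
    have hle : (T : Subgroup ↥C) ≤ (S' : Subgroup G).comap C.subtype := fun y hy => hS' ⟨y, hy, rfl⟩
    exact (T.3 (S'.isPGroup'.comap_subtype (K := C)) hle).le hx
  by_cases hw : ∀ w ∈ Zof S', w = 1 ∨ w = t
  · intro g hg
    refine hA'.normalizer_le D (D.hZ S' ?_)
    refine Subgroup.mem_centralizer_iff.2 fun z hz => ?_
    rcases hw z hz with rfl | rfl
    · rw [one_mul, mul_one]
    · exact (Subgroup.mem_centralizer_singleton_iff.1 hg).symm
  push Not at hw
  obtain ⟨w, hwZ, hw1, hwt⟩ := hw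
  obtain ⟨hwS, hwc, hw2⟩ := mem_Zof.1 hwZ
  have hwC : w ∈ C := Subgroup.mem_centralizer_singleton_iff.2 (hwc t htS').symm
  haveI : Group.IsSolvable ↥C := solvable_of_mem D.hC hA.2.1 ht ht1
  -- the subgroup over the two-core modulo the odd core
  set O := pPrimeCore 2 ↥C with hO
  haveI : O.Normal := FittingCores.pPrimeCore_normal 2
  set π := QuotientGroup.mk' O with hπ
  set Q := (pCore 2 (↥C ⧸ O)).comap π with hQ
  haveI : Q.Normal := Subgroup.Normal.comap inferInstance π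
  have hsurj : Function.Surjective π := QuotientGroup.mk'_surjective _
  have hOQ : O ≤ Q := fun x hx => by
    rw [hQ, Subgroup.mem_comap, show π x = 1 from (QuotientGroup.eq_one_iff x).2 hx]
    exact one_mem _
  set P := (T : Subgroup ↥C) ⊓ Q with hP
  have hcover : ∀ y ∈ pCore 2 (↥C ⧸ O), ∃ x ∈ P, π x = y := by
    intro y hy
    have h := FittingCores.pCore_le_sylow (T.mapSurjective hsurj) hy
    rw [Sylow.coe_mapSurjective] at h
    obtain ⟨x, hx, rfl⟩ := h
    exact ⟨x, ⟨hx, hy⟩, rfl⟩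
  have hQPO : Q = P ⊔ O := by
    refine le_antisymm (fun x hx => ?_) (sup_le inf_le_right hOQ)
    obtain ⟨y, hy, hyx⟩ := hcover (π x) hx
    rw [show x = y * (y⁻¹ * x) by group]
    exact mul_mem (Subgroup.mem_sup_left hy) (Subgroup.mem_sup_right (QuotientGroup.eq.1 hyx))
  -- a Sylow subgroup of `Q`
  have hPi : ¬ 2 ∣ (P.subgroupOf Q).index := by
    intro h2
    have hd : P.relIndex Q ∣ Nat.card O := by
      have h1 := Subgroup.relIndex_mul_relIndex ⊥ P Q bot_le inf_le_right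
      have h3 := Subgroup.relIndex_mul_relIndex ⊥ O Q bot_le hOQ
      rw [Subgroup.relIndex_bot_left] at h1 h3
      rw [Subgroup.relIndex_bot_left] at h1 h3
      have h4 : O.relIndex Q = O.relIndex P := by rw [hQPO, Subgroup.relIndex_sup_right]
      obtain ⟨m, hm⟩ : O.relIndex P ∣ Nat.card P := Subgroup.relIndex_dvd_card O P
      refine ⟨m, ?_⟩
      have hpos : 0 < O.relIndex P := Nat.pos_of_ne_zero fun e => by
        rw [e, zero_mul] at hm; exact Nat.card_pos.ne' hm
      refine Nat.eq_of_mul_eq_mul_left hpos ?_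
      rw [← h4]
      calc O.relIndex Q * Nat.card O = Nat.card Q := by rw [mul_comm]; exact h3
        _ = Nat.card P * P.relIndex Q := h1.symm
        _ = _ := by rw [hm, h4]; ring
    exact (Nat.Prime.coprime_iff_not_dvd Nat.prime_two).1
      (FittingCores.pPrimeCore_coprime (G := ↥C) 2).symm (h2.trans hd)
  let P' : Sylow 2 ↥Q := (IsPGroup.comap_subtype (T.isPGroup'.to_le (inf_le_left : P ≤ T))).toSylow hPi
  have hfr := P'.normalizer_sup_eq_top
  rw [show ((P' : Subgroup ↥Q).map Q.subtype) = P from Subgroup.map_subgroupOf_eq_of_le inf_le_right] at hfr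
  have hPn : P ≤ Subgroup.normalizer (P : Set ↥C) := Subgroup.le_normalizer
  -- the two parts
  suffices hN : Subgroup.normalizer (P : Set ↥C) ≤ (Subgroup.normalizer (sig A : Set G)).comap C.subtype by
    intro g hg
    have hle : (⊤ : Subgroup ↥C) ≤ (Subgroup.normalizer (sig A : Set G)).comap C.subtype := by
      rw [← hfr, hQPO]
      refine sup_le hN (sup_le (hPn.trans hN) fun x hx => ?_)
      have hx' : (x : G) ∈ sig A := th_le_sig ht ht1 ⟨x, hx, rfl⟩
      exact Subgroup.le_normalizer hx'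
    exact hle (Subgroup.mem_top ⟨g, hg⟩)
  intro g hg
  show (g : G) ∈ Subgroup.normalizer (sig A : Set G)
  set PG := P.map C.subtype with hPG
  set E := omegaOne 2 (PG ⊓ Subgroup.centralizer (PG : Set G)) with hEdef
  have hPGS : PG ≤ (S' : Subgroup G) := by
    rintro _ ⟨x, hx, rfl⟩
    exact (hTS x).1 hx.1
  have hcharP : ∀ x : ↥C, x ∈ (T : Subgroup ↥C) → (∀ y ∈ (T : Subgroup ↥C), y * x = x * y) → x ∈ P := by
    intro x hx hxc
    refine ⟨hx, Subgroup.mem_comap.2 (FittingCores.centralizer_pCore_le Nat.prime_two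
      (Components.pPrimeCore_quotient (p := 2) ↥C) (Subgroup.mem_centralizer_iff.2 fun y hy => ?_))⟩
    obtain ⟨u, hu, rfl⟩ := hcover y hy
    rw [← map_mul, ← map_mul, hxc u hu.1]
  have hmemE : ∀ x : G, x ∈ (S' : Subgroup G) → (∀ s ∈ (S' : Subgroup G), s ∈ C → s * x = x * s) → x ^ 2 = 1 →
      x ∈ C → x ∈ E := by
    intro x hxS hxc hx2 hxC
    have hxP : (⟨x, hxC⟩ : ↥C) ∈ P := hcharP _ ((hTS _).2 hxS) fun y hy =>
      Subtype.ext (hxc y ((hTS y).1 hy) y.2)
    refine (mem_omega inf_centralizer_comm).2 ⟨⟨⟨_, hxP, rfl⟩, Subgroup.mem_centralizer_iff.2 ?_⟩, hx2⟩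
    rintro _ ⟨y, hy, rfl⟩
    exact hxc y ((hTS y).1 hy.1) y.2
  have ht2 : t ^ 2 = 1 := hA.2.1.2 t ht
  have htE : t ∈ E := hmemE t htS' (fun s _ hsC => Subgroup.mem_centralizer_singleton_iff.1 hsC) ht2 (hAC ht)
  have hwE : w ∈ E := hmemE w hwS (fun s hs _ => hwc s hs) hw2 hwC
  have hEe : IsElementaryAbelian 2 E := omega_ea inf_centralizer_comm
  have hES : E ≤ (S' : Subgroup G) := (omega_le 2).trans (inf_le_left.trans hPGS)
  obtain ⟨F, htF, hwF, hF4, hFe, hF⟩ := ZCGroup.exists_four (hwc t htS') (by rw [← pow_two, ht2])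
    (by rw [← pow_two, hw2]) ht1 hw1 (Ne.symm hwt)
  have hFE : F ≤ E := fun x hx => by
    rcases hF x hx with rfl | rfl | rfl | rfl
    · exact E.one_mem
    · exact htE
    · exact hwE
    · exact E.mul_mem htE hwE
  have hFA : F ≤ A ⊔ Zof S' := fun x hx => by
    rcases hF x hx with rfl | rfl | rfl | rfl
    · exact one_mem _
    · exact Subgroup.mem_sup_left ht
    · exact Subgroup.mem_sup_right hwZ
    · exact mul_mem (Subgroup.mem_sup_left ht) (Subgroup.mem_sup_right hwZ)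
  have hsigE : sig E = sig A := by
    by_cases h8 : 8 ≤ Nat.card E
    · exact Big.sig_eq_sig D ⟨hES, hEe, h8⟩ hA'
    · have hEF : F = E := Subgroup.eq_of_le_of_card_ge hFE (by
        have := card_le_four hEe (Nat.lt_of_not_le h8); omega)
      rw [← hEF, sig_eq D.hC hA'.sup_Zof.2.1 hA'.sup_Zof.2.2 hFA (by omega)]
      exact Big.sig_eq_sig D hA'.sup_Zof hA'
  have hgE : (g : G) ∈ Subgroup.normalizer (E : Set G) := by
    have hgP : (g : G) ∈ Subgroup.normalizer (PG : Set G) := by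
      refine Subgroup.mem_normalizer_fintype ?_
      rintro _ ⟨x, hx, rfl⟩
      exact ⟨g * x * g⁻¹, (Subgroup.mem_normalizer_iff.1 hg x).1 hx, rfl⟩
    refine Subgroup.mem_normalizer_fintype fun x hx => ?_
    obtain ⟨⟨hxP, hxc⟩, hx2⟩ := (mem_omega inf_centralizer_comm).1 hx
    refine (mem_omega inf_centralizer_comm).2 ⟨⟨(Subgroup.mem_normalizer_iff.1 hgP x).1 hxP,
      Subgroup.mem_centralizer_iff.2 fun y hy => ?_⟩, by rw [conj_pow, hx2, mul_one, mul_inv_cancel]⟩
    have hy' : (g : G)⁻¹ * y * g ∈ PG := (Subgroup.mem_normalizer_iff.1 hgP _).2 (by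
      rwa [show (g : G) * ((g : G)⁻¹ * y * g) * (g : G)⁻¹ = y by group])
    have h := Subgroup.mem_centralizer_iff.1 hxc _ hy'
    calc y * ((g : G) * x * (g : G)⁻¹) = g * ((g : G)⁻¹ * y * g * x) * (g : G)⁻¹ := by group
      _ = _ := by rw [h]; group
  rw [← hsigE]
  refine mem_normalizer_of_map ?_
  rw [← sig_map, map_of_mem_normalizer hgE]

end Cfsg.Agent.ZCGroup
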