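import Cfsg.Agent.Lib.ZCGroup.RankTwo

/-!
Sylow subgroups with an elementary abelian subgroup of order eight.
-/

set_option autoImplicit false

namespace Cfsg.Agent.ZCGroup

open Cfsg

variable {G : Type*} [Group G] [Finite G] {S : Sylow 2 G} {A : Subgroup G}

theorem zpowers_ea {u : G} (hu : u * u = 1) : IsElementaryAbelian 2 (Subgroup.zpowers u) := by
  refine ⟨inferInstance, fun x hx => ?_⟩
  obtain ⟨i, rfl⟩ := Subgroup.mem_zpowers_iff.1 hx
  rw [← zpow_natCast, ← zpow_mul, mul_comm, zpow_mul, zpow_natCast, pow_two, hu, one_zpow]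

theorem onlyZ_or_four (S : Sylow 2 G) {z : G} (hz : z ∈ Zof S) (hz1 : z ≠ 1) :
    OnlyZ S z ∨ 4 ≤ Nat.card (Zof S) := by
  by_cases h : ∀ w ∈ Zof S, w = 1 ∨ w = z
  · exact Or.inl ⟨hz, hz1, h⟩
  · push Not at h
    obtain ⟨w, hw, hw1, hwz⟩ := h
    obtain ⟨F, -, -, hF4, -, hF⟩ := exists_four (Signalizer.ea_comm (Zof_ea S) hz hw)
      (by rw [← pow_two]; exact (Zof_ea S).2 z hz) (by rw [← pow_two]; exact (Zof_ea S).2 w hw) hz1 hw1 (Ne.symm hwz)
    refine Or.inr (hF4 ▸ Subgroup.card_le_of_le fun x hx => ?_)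
    rcases hF x hx with rfl | rfl | rfl | rfl
    exacts [one_mem _, hz, hw, mul_mem hz hw]

/-- When `Ω₁(Z(S))` is not cyclic each involution of `S` lies in a big subgroup. -/
theorem Big.exists_mem_of_four (hA : Big S A) (h4 : 4 ≤ Nat.card (Zof S)) {t : G} (ht : t ∈ (S : Subgroup G))
    (ht2 : t * t = 1) : ∃ B, Big S B ∧ t ∈ B := by
  by_cases htZ : t ∈ Zof S
  · exact ⟨A ⊔ Zof S, hA.sup_Zof, Subgroup.mem_sup_right htZ⟩
  have hE : IsElementaryAbelian 2 (Zof S ⊔ Subgroup.zpowers t) :=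
    ea_sup (Zof_ea S) (zpowers_ea ht2) fun a ha b hb => by
      obtain ⟨i, rfl⟩ := Subgroup.mem_zpowers_iff.1 hb
      exact ((show Commute a t from ((mem_Zof.1 ha).2.1 t ht).symm).zpow_right i).eq
  refine ⟨Zof S ⊔ Subgroup.zpowers t, ⟨sup_le (Zof_le S) (Subgroup.zpowers_le.2 ht), hE, ?_⟩,
    Subgroup.mem_sup_right (Subgroup.mem_zpowers t)⟩
  by_contra h8
  have := card_le_four hE (Nat.lt_of_not_le h8)
  refine htZ ?_
  rw [Subgroup.eq_of_le_of_card_ge (H := Zof S) (K := Zof S ⊔ Subgroup.zpowers t) le_sup_left (by omega)]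
  exact Subgroup.mem_sup_right (Subgroup.mem_zpowers t)

/-- An involution centralising a normal four-subgroup lies in a big subgroup. -/
theorem Big.exists_mem_of_centralizes (hA : Big S A) {V : Subgroup G} (hVS : V ≤ (S : Subgroup G))
    (hVn : (S : Subgroup G) ≤ Subgroup.normalizer (V : Set G)) (hV4 : Nat.card V = 4) (hVe : IsElementaryAbelian 2 V)
    {u : G} (hu : u ∈ (S : Subgroup G)) (hu2 : u * u = 1) (hc : u ∈ Subgroup.centralizer (V : Set G)) :
    ∃ B, Big S B ∧ u ∈ B := by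
  by_cases huV : u ∈ V
  · obtain ⟨A', hA', hVA, -⟩ := hA.exists_link hVS hVn hV4 hVe
    exact ⟨A', hA', hVA huV⟩
  have hE : IsElementaryAbelian 2 (V ⊔ Subgroup.zpowers u) :=
    ea_sup hVe (zpowers_ea hu2) fun a ha b hb => by
      obtain ⟨i, rfl⟩ := Subgroup.mem_zpowers_iff.1 hb
      exact ((show Commute a u from Subgroup.mem_centralizer_iff.1 hc a ha).zpow_right i).eq
  refine ⟨V ⊔ Subgroup.zpowers u, ⟨sup_le hVS (Subgroup.zpowers_le.2 hu), hE, ?_⟩,
    Subgroup.mem_sup_right (Subgroup.mem_zpowers u)⟩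
  by_contra h8
  have := card_le_four hE (Nat.lt_of_not_le h8)
  refine huV ?_
  rw [Subgroup.eq_of_le_of_card_ge (H := V) (K := V ⊔ Subgroup.zpowers u) le_sup_left (by omega)]
  exact Subgroup.mem_sup_right (Subgroup.mem_zpowers u)

/-- Every involution of the trace is conjugate into a big subgroup. -/
theorem Big.conj_into_big (hA : Big S A) {t : G} (ht : t ∈ (S : Subgroup G) ⊓ pResidual 2 G) (ht2 : orderOf t = 2) :
    ∃ g : G, ∃ B, Big S B ∧ g * t * g⁻¹ ∈ B := by
  haveI : (((S : Subgroup G) ⊓ pResidual 2 G).subgroupOf (S : Subgroup G)).Normal :=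
    Subgroup.normal_subgroupOf_of_le_normalizer (inf_le_normalizer S)
  obtain ⟨hts, -⟩ := sq_of_order ht2
  have hsq : ∀ g : G, g * t * g⁻¹ * (g * t * g⁻¹) = 1 := fun g => by
    rw [show g * t * g⁻¹ * (g * t * g⁻¹) = g * (t * t) * g⁻¹ by group, hts]; group
  rcases four_or_index_two S.isPGroup' (((S : Subgroup G) ⊓ pResidual 2 G).subgroupOf (S : Subgroup G)) with
    ⟨V₀, hVn, hVR, hV4, hV2⟩ | ⟨T₀, hTR, hTi, hTc⟩
  swap
  · obtain ⟨g, -, hg⟩ := conj_into S (T := T₀.map (S : Subgroup G).subtype)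
      (by rintro _ ⟨x, hx, rfl⟩; exact hTR hx) (map_index_two S hTi) ht ht2
    obtain ⟨x, hx, hxe⟩ := hg
    have hxe' : (x : G) = g * t * g⁻¹ := hxe
    have hxc := Subgroup.mem_center_iff.1 (hTc x hx (Subtype.ext (by
      show (x : G) * x = 1; rw [hxe']; exact hsq g)))
    refine ⟨g, A ⊔ Zof S, hA.sup_Zof, Subgroup.mem_sup_right (mem_Zof.2 ⟨hxe' ▸ x.2, ?_, by rw [pow_two]; exact hsq g⟩)⟩
    intro s hs
    rw [← hxe']
    exact congrArg Subtype.val (hxc ⟨s, hs⟩)
  set V := V₀.map (S : Subgroup G).subtype with hVdef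
  have hVS : V ≤ (S : Subgroup G) := Subgroup.map_subtype_le _
  have hVn' : (S : Subgroup G) ≤ Subgroup.normalizer (V : Set G) := fun s hs => by
    refine Subgroup.mem_normalizer_fintype ?_
    rintro _ ⟨v, hv, rfl⟩
    exact ⟨⟨s, hs⟩ * v * ⟨s, hs⟩⁻¹, hVn.conj_mem v hv _, rfl⟩
  have hV4' : Nat.card V = 4 := by rw [hVdef, Subgroup.card_map_of_injective (Subgroup.subtype_injective _), hV4]
  have hVe : IsElementaryAbelian 2 V := by
    refine ea_map ⟨⟨⟨fun p q => ?_⟩⟩, fun x hx => by rw [pow_two]; exact hV2 x hx⟩ _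
    have h := hV2 _ (V₀.mul_mem p.2 q.2)
    have hp : (p : ↥(S : Subgroup G))⁻¹ = p := inv_eq_of_mul_eq_one_right (hV2 _ p.2)
    have hq : (q : ↥(S : Subgroup G))⁻¹ = q := inv_eq_of_mul_eq_one_right (hV2 _ q.2)
    refine Subtype.ext ?_
    show (p : ↥(S : Subgroup G)) * q = q * p
    conv_lhs => rw [← inv_eq_of_mul_eq_one_right h, mul_inv_rev, hp, hq]
  obtain ⟨g, -, hg⟩ := conj_into S
    (T := ((S : Subgroup G) ⊓ pResidual 2 G) ⊓ Subgroup.centralizer (V : Set G)) inf_le_left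
    (fun b hb c hc hbT hcT => ⟨((S : Subgroup G) ⊓ pResidual 2 G).mul_mem (inv_mem hb) hc,
      four_centralizer hVS hVn' hV4' hVe hb.1 hc.1 (fun h' => hbT ⟨hb, h'⟩) (fun h' => hcT ⟨hc, h'⟩)⟩) ht ht2
  obtain ⟨B, hB, hgB⟩ := hA.exists_mem_of_centralizes hVS hVn' hV4' hVe hg.1.1 (hsq g) hg.2
  exact ⟨g, B, hB, hgB⟩

variable (D : Hyp G)
include D

theorem Big.th_eq_bot (hA : Big S A) (hW : sig A = ⊥) {t g : G} {B : Subgroup G} (hB : Big S B)
    (ht : t ≠ 1) (hg : g * t * g⁻¹ ∈ B) : th t = ⊥ := by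
  have h1 : th (g * t * g⁻¹) ≤ ⊥ := by
    rw [← hW, ← hB.sig_eq_sig D hA]
    exact th_le_sig hg fun e => ht (conj_eq_one_iff.1 e)
  rw [th_conj, le_bot_iff] at h1
  exact (Subgroup.map_eq_bot_iff_of_injective _ (MulAut.conj g).injective).1 h1

/-- **The centraliser of every involution of the trace normalises the generated subgroup.** -/
theorem Big.centralizer_le_of_trace (hA : Big S A) {z : G} (hz : z ∈ Zof S) (hz1 : z ≠ 1) {t : G}
    (ht : t ∈ (S : Subgroup G) ⊓ pResidual 2 G) (ht2 : orderOf t = 2) :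
    Subgroup.centralizer {t} ≤ Subgroup.normalizer (sig A : Set G) := by
  haveI : Fact (Nat.Prime 2) := ⟨Nat.prime_two⟩
  obtain ⟨hts, ht1⟩ := sq_of_order ht2
  by_cases hB : ∃ B, Big S B ∧ t ∈ B
  · obtain ⟨B, hB, htB⟩ := hB
    rw [← hB.sig_eq_sig D hA]
    exact hB.centralizer_le D htB ht1
  rcases onlyZ_or_four S hz hz1 with h | h4
  swap
  · exact absurd (hA.exists_mem_of_four h4 ht.1 hts) hB
  obtain ⟨hzS, hzc, -⟩ := mem_Zof.1 h.1
  have htz : t ≠ z := fun e => hB ⟨A ⊔ Zof S, hA.sup_Zof, Subgroup.mem_sup_right (e ▸ h.1)⟩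
  set U := (S : Subgroup G) ⊓ Subgroup.centralizer {t} with hU
  have hUc : ∀ u ∈ U, ∀ v ∈ U, v = z → u * v = v * u := fun u hu v _ e => e ▸ hzc u hu.1
  -- the only involutions commuting with `t` in the Sylow subgroup
  have hthree : ∀ u ∈ (S : Subgroup G), u * u = 1 → u * t = t * u → u = 1 ∨ u = z ∨ u = t ∨ u = z * t := by
    intro u hu hu2 hut
    obtain ⟨F, hzF, htF, hF4, hFe, hF⟩ := ZCGroup.exists_four (hzc t ht.1).symm h.sq hts h.2.1 ht1 (Ne.symm htz)
    have hE : IsElementaryAbelian 2 (F ⊔ Subgroup.zpowers u) := ea_sup hFe (zpowers_ea hu2) fun a ha b hb => by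
      obtain ⟨i, rfl⟩ := Subgroup.mem_zpowers_iff.1 hb
      refine ((show Commute a u from ?_).zpow_right i).eq
      rcases hF a ha with rfl | rfl | rfl | rfl
      · exact Commute.one_left u
      · exact (hzc u hu).symm
      · exact hut.symm
      · exact Commute.mul_left (hzc u hu).symm hut.symm
    have hFS : F ≤ (S : Subgroup G) := fun x hx => by
      rcases hF x hx with rfl | rfl | rfl | rfl
      exacts [one_mem _, hzS, ht.1, mul_mem hzS ht.1]
    have h4 := card_le_four hE (Nat.lt_of_not_le fun h8 =>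
      hB ⟨_, ⟨sup_le hFS (Subgroup.zpowers_le.2 hu), hE, h8⟩, Subgroup.mem_sup_left htF⟩)
    refine hF u ?_
    rw [Subgroup.eq_of_le_of_card_ge (H := F) (K := F ⊔ Subgroup.zpowers u) le_sup_left (by omega)]
    exact Subgroup.mem_sup_right (Subgroup.mem_zpowers u)
  -- `z t` is conjugate to `z`
  obtain ⟨g₁, hg₁⟩ : ∃ g : G, z * t = g * z * g⁻¹ := by
    set C := Subgroup.centralizer ({t} : Set G) with hC
    obtain ⟨T, hT⟩ := ((S.isPGroup'.comap_subtype (K := C))).exists_le_sylow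
    by_cases hTS : ∀ x : ↥C, x ∈ (T : Subgroup ↥C) → (x : G) ∈ (S : Subgroup G)
    · exfalso
      obtain ⟨g, B, hB', hgB⟩ := hA.conj_into_big ht ht2
      set B' := B.map (MulAut.conj g⁻¹).toMonoidHom with hB'def
      have htB' : t ∈ B' := ⟨_, hgB, by simp [mul_assoc]⟩
      have hB'e : IsElementaryAbelian 2 B' := ea_map hB'.2.1 _
      have hB'C : B' ≤ C := Signalizer.ea_le_centralizer_singleton hB'e htB'
      obtain ⟨T', hT'⟩ := ((Signalizer.ea_isPGroup hB'e).comap_subtype (K := C)).exists_le_sylow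
      obtain ⟨c, hc⟩ := MulAction.exists_smul_eq ↥C T' T
      refine hB ⟨B'.map (MulAut.conj (c : G)).toMonoidHom, ⟨?_, ea_map hB'e _, ?_⟩, t, htB', ?_⟩
      · rintro _ ⟨b, hb, rfl⟩
        have h1 : c * ⟨b, hB'C hb⟩ * c⁻¹ ∈ (T : Subgroup ↥C) := by
          rw [← hc]
          exact Subgroup.smul_mem_pointwise_smul _ (MulAut.conj c) (T' : Subgroup ↥C) (hT' hb)
        exact hTS _ h1
      · rw [Subgroup.card_map_of_injective (MulAut.conj (c : G)).injective, hB'def,
          Subgroup.card_map_of_injective (MulAut.conj g⁻¹).injective]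
        exact hB'.2.2
      · show (c : G) * t * (c : G)⁻¹ = t
        rw [Subgroup.mem_centralizer_singleton_iff.1 c.2, mul_inv_cancel_right]
    push Not at hTS
    -- a two-element outside normalising the part in `S`
    have hlt : ((S : Subgroup G).comap C.subtype) < (T : Subgroup ↥C) := by
      refine lt_of_le_of_ne hT fun e => ?_
      obtain ⟨x, hx, hxS⟩ := hTS
      rw [← e] at hx
      exact hxS hx
    set P := (S : Subgroup G).comap C.subtype with hP
    haveI := T.isPGroup'.isNilpotent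
    have hlt' : P.subgroupOf (T : Subgroup ↥C) < ⊤ :=
      lt_top_iff_ne_top.2 fun e => hlt.not_ge (Subgroup.subgroupOf_eq_top.1 e)
    obtain ⟨x, hxn, hxP⟩ := SetLike.exists_of_lt (Group.normalizerCondition_of_isNilpotent _ hlt')
    set x₀ : G := (((x : ↥(T : Subgroup ↥C)) : ↥C) : G) with hx₀
    have hx₀C : x₀ * t = t * x₀ := Subgroup.mem_centralizer_singleton_iff.1 (x : ↥C).2
    have hzC : z ∈ C := Subgroup.mem_centralizer_singleton_iff.2 (hzc t ht.1).symm
    have hzx : x₀ * z * x₀⁻¹ ∈ (S : Subgroup G) :=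
      (Subgroup.mem_normalizer_iff.1 hxn ⟨⟨z, hzC⟩, hT hzS⟩).1 hzS
    have hzx2 : x₀ * z * x₀⁻¹ * (x₀ * z * x₀⁻¹) = 1 := by
      rw [show x₀ * z * x₀⁻¹ * (x₀ * z * x₀⁻¹) = x₀ * (z * z) * x₀⁻¹ by group, h.sq]; group
    have hzxt : x₀ * z * x₀⁻¹ * t = t * (x₀ * z * x₀⁻¹) := by
      have h1 : Commute x₀ t := hx₀C
      have h2 : Commute z t := (hzc t ht.1).symm
      exact ((h1.mul_left h2).mul_left h1.inv_left).eq
    rcases hthree _ hzx hzx2 hzxt with h' | h' | h' | h'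
    · exact absurd (conj_eq_one_iff.1 h') h.2.1
    · refine absurd ?_ hxP
      show x₀ ∈ (S : Subgroup G)
      refine mem_of_normalizes (h.centralizer_le D (Subgroup.mem_centralizer_singleton_iff.2
        (mul_inv_eq_iff_eq_mul.1 h'))) ?_
      have hp := (T.isPGroup'.to_le (Subgroup.zpowers_le.2 x.2)).map C.subtype
      rw [MonoidHom.map_zpowers] at hp
      exact hp
    · refine absurd ?_ htz
      calc t = x₀⁻¹ * (t * x₀) := by rw [← hx₀C]; group
        _ = x₀⁻¹ * ((x₀ * z * x₀⁻¹) * x₀) := by rw [h']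
        _ = z := by group
    · exact ⟨x₀, h'.symm⟩
  -- `t` is conjugate to `z t`
  obtain ⟨g₂, hg₂⟩ : ∃ g : G, t = g * z * g⁻¹ := by
    obtain ⟨V, hVS, hVn, hV4, hVe⟩ := hA.exists_four
    have htV : t ∉ Subgroup.centralizer (V : Set G) := fun hc =>
      hB (hA.exists_mem_of_centralizes hVS hVn hV4 hVe ht.1 hts hc)
    obtain ⟨v, hv, hvt⟩ : ∃ v ∈ V, v * t ≠ t * v := by
      by_contra hc
      push Not at hc
      exact htV (Subgroup.mem_centralizer_iff.2 hc)
    obtain ⟨w, hw, hw1, hwZ⟩ := exists_mem_Zof hVS hVn (fun e => by rw [e, Subgroup.card_bot] at hV4; omega)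
    have hzV : z ∈ V := by
      rcases h.2.2 w hwZ with e | e
      · exact absurd e hw1
      · exact e ▸ hw
    have hv2 : v * v = 1 := by rw [← pow_two]; exact hVe.2 v hv
    have hv1 : v ≠ 1 := fun e => hvt (by rw [e, one_mul, mul_one])
    have hvz : v ≠ z := fun e => hvt (e ▸ (hzc t ht.1).symm)
    obtain ⟨F, -, -, hF4, -, hF⟩ := ZCGroup.exists_four (Signalizer.ea_comm hVe hzV hv) h.sq hv2 h.2.1 hv1 (Ne.symm hvz)
    have hFV : F = V := by
      refine Subgroup.eq_of_le_of_card_ge (fun x hx => ?_) (by omega)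
      rcases hF x hx with rfl | rfl | rfl | rfl
      exacts [V.one_mem, hzV, hv, V.mul_mem hzV hv]
    have ti : t⁻¹ = t := inv_eq_of_mul_eq_one_right hts
    have hm := (Subgroup.mem_normalizer_iff.1 (hVn ht.1) v).1 hv
    have htv : t * v * t⁻¹ = z * v := by
      rcases hF _ (hFV ▸ hm) with h' | h' | h' | h'
      · exact absurd (conj_eq_one_iff.1 h') hv1
      · refine absurd ?_ hvz
        calc v = t⁻¹ * (t * v * t⁻¹) * t := by group
          _ = t⁻¹ * (t * z) := by rw [h', hzc t ht.1, mul_assoc]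
          _ = z := by group
      · exact absurd (mul_inv_eq_iff_eq_mul.1 h').symm hvt
      · exact h'
    refine ⟨v * g₁, ?_⟩
    have vi : v⁻¹ = v := inv_eq_of_mul_eq_one_right hv2
    have e1 : t * v = z * v * t := mul_inv_eq_iff_eq_mul.1 htv
    calc t = v * (v * t) := by rw [← mul_assoc, hv2, one_mul]
      _ = v * (z * (t * v)) := by rw [e1, ← mul_assoc z, ← mul_assoc z, h.sq, one_mul]
      _ = v * (z * t) * v⁻¹ := by rw [vi]; group
      _ = _ := by rw [hg₁]; group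
  have hAZ := hA.sup_Zof
  obtain ⟨hodd, heq⟩ := sig_spec D.hC hAZ.2.1 hAZ.2.2
  have hsame : sig (A ⊔ Zof S) = sig A := hAZ.sig_eq_sig D hA
  rw [hsame] at hodd heq
  have hz' := heq z (Subgroup.mem_sup_right h.1) h.2.1
  have hSn : (S : Subgroup G) ≤ Subgroup.normalizer (sig A : Set G) :=
    Subgroup.le_normalizer.trans (hA.normalizer_le D)
  have h1 : sig A ⊓ Subgroup.centralizer {t} ≤ th z := by
    rw [← hz', hg₂]
    exact le_inf inf_le_left (h.inf_le D (hg₂ ▸ ht.1) hodd (hSn hzS))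
  have h2 : sig A ⊓ Subgroup.centralizer {z * t} ≤ th z := by
    rw [← hz', hg₁]
    exact le_inf inf_le_left (h.inf_le D (hg₁ ▸ mul_mem hzS ht.1) hodd (hSn hzS))
  have hWz : sig A = th z := by
    refine le_antisymm ?_ (hsame ▸ th_le_sig (Subgroup.mem_sup_right h.1) h.2.1)
    obtain ⟨F, hzF, htF, hF4, hFe, hF⟩ := ZCGroup.exists_four (hzc t ht.1).symm h.sq hts h.2.1 ht1 (Ne.symm htz)
    haveI : IsMulCommutative F := hFe.1
    have hFn : F ≤ Subgroup.normalizer (sig A : Set G) := fun x hx => hSn (by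
      rcases hF x hx with rfl | rfl | rfl | rfl
      exacts [one_mem _, hzS, ht.1, mul_mem hzS ht.1])
    have := CoprimeAct.generated_by_centralizers (A := F) (K := sig A) (Signalizer.ea_not_isCyclic hFe (by omega))
      hFn (Signalizer.coprime_card (Signalizer.ea_isPGroup hFe) hodd)
    rw [← this]
    refine iSup₂_le fun a ha => ?_
    rcases hF a ha.1 with rfl | rfl | rfl | rfl
    · exact absurd rfl ha.2
    · exact hz'.le
    · exact h1
    · exact h2
  rw [hWz, ← h.th_eq D (g := g₂) (hg₂ ▸ ht.1), ← hg₂]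
  exact centralizer_le_normalizer_th t

/-- The normaliser of the trace normalises the generated subgroup. -/
theorem Big.normalizer_trace_le (hA : Big S A) {z : G} (hz : z ∈ Zof S) (hzH : z ∈ pResidual 2 G) (hz1 : z ≠ 1) :
    Subgroup.normalizer (((S : Subgroup G) ⊓ pResidual 2 G : Subgroup G) : Set G) ≤
      Subgroup.normalizer (sig A : Set G) := by
  intro g hg
  set R := (S : Subgroup G) ⊓ pResidual 2 G with hR
  set V := omegaOne 2 (R ⊓ Subgroup.centralizer (R : Set G)) with hV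
  have hVinv : ∀ x ∈ Subgroup.normalizer (R : Set G), x ∈ Subgroup.normalizer (V : Set G) := by
    intro x hx
    refine Subgroup.mem_normalizer_fintype fun v hv => ?_
    obtain ⟨⟨hvR, hvc⟩, hv2⟩ := (mem_omega inf_centralizer_comm).1 hv
    refine (mem_omega inf_centralizer_comm).2 ⟨⟨(Subgroup.mem_normalizer_iff.1 hx v).1 hvR,
      Subgroup.mem_centralizer_iff.2 fun y hy => ?_⟩, by rw [conj_pow, hv2, mul_one, mul_inv_cancel]⟩
    have hy' : x⁻¹ * y * x ∈ R := (Subgroup.mem_normalizer_iff.1 hx _).2 (by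
      rwa [show x * (x⁻¹ * y * x) * x⁻¹ = y by group])
    have h' := Subgroup.mem_centralizer_iff.1 hvc _ hy'
    calc y * (x * v * x⁻¹) = x * (x⁻¹ * y * x * v) * x⁻¹ := by group
      _ = _ := by rw [h']; group
  obtain ⟨hzS, hzc, hz2⟩ := mem_Zof.1 hz
  have hzV : z ∈ V := (mem_omega inf_centralizer_comm).2
    ⟨⟨⟨hzS, hzH⟩, Subgroup.mem_centralizer_iff.2 fun y hy => hzc y hy.1⟩, hz2⟩
  by_cases hone : ∀ v ∈ V, v = 1 ∨ v = z
  · have hgz : g * z * g⁻¹ = z := by
      rcases hone _ ((Subgroup.mem_normalizer_iff.1 (hVinv g hg) z).1 hzV) with h' | h'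
      · exact absurd (conj_eq_one_iff.1 h') hz1
      · exact h'
    rw [← (hA.sup_Zof).sig_eq_sig D hA]
    exact hA.sup_Zof.centralizer_le D (Subgroup.mem_sup_right hz) hz1
      (Subgroup.mem_centralizer_singleton_iff.2 (mul_inv_eq_iff_eq_mul.1 hgz))
  push Not at hone
  obtain ⟨v, hv, hv1, hvz⟩ := hone
  have hVe : IsElementaryAbelian 2 V := omega_ea inf_centralizer_comm
  have hVS : V ≤ (S : Subgroup G) := (omega_le 2).trans (inf_le_left.trans inf_le_left)
  have hVn : (S : Subgroup G) ≤ Subgroup.normalizer (V : Set G) := fun s hs => hVinv s (inf_le_normalizer S hs)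
  have hsq : ∀ x ∈ V, x * x = 1 := fun x hx => by rw [← pow_two]; exact hVe.2 x hx
  obtain ⟨F, -, -, hF4, -, hF⟩ :=
    ZCGroup.exists_four (Signalizer.ea_comm hVe hzV hv) (hsq z hzV) (hsq v hv) hz1 hv1 (Ne.symm hvz)
  have h4 : 4 ≤ Nat.card V := hF4 ▸ Subgroup.card_le_of_le fun x hx => by
    rcases hF x hx with rfl | rfl | rfl | rfl
    exacts [V.one_mem, hzV, hv, V.mul_mem hzV hv]
  have hsig : sig V = sig A := by
    by_cases h8 : 8 ≤ Nat.card V
    · exact Big.sig_eq_sig D ⟨hVS, hVe, h8⟩ hA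
    · exact hA.sig_four D hVS hVn (le_antisymm (card_le_four hVe (Nat.lt_of_not_le h8)) h4) hVe
  rw [← hsig]
  refine mem_normalizer_of_map ?_
  rw [← sig_map, map_of_mem_normalizer (hVinv g hg)]

end Cfsg.Agent.ZCGroup
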