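import Cfsg.Agent.Lib.ZCGroup.Central

/-!
Sylow subgroups of two-rank at most two: the central involution is isolated or all involutions are its conjugates.
-/

set_option autoImplicit false

namespace Cfsg.Agent.ZCGroup

open Cfsg

variable {G : Type*} [Group G] [Finite G] {S : Sylow 2 G}

/-- Without big subgroups the involutions centralising a four-subgroup lie in it. -/
theorem mem_four_of_not_big (hno : ∀ A, ¬ Big S A) {V : Subgroup G} (hVS : V ≤ (S : Subgroup G))
    (hV4 : Nat.card V = 4) (hVe : IsElementaryAbelian 2 V) {u : G} (hu : u ∈ (S : Subgroup G))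
    (hu2 : u * u = 1) (hc : ∀ v ∈ V, v * u = u * v) : u ∈ V := by
  haveI : Fact (Nat.Prime 2) := ⟨Nat.prime_two⟩
  have hU : IsElementaryAbelian 2 (Subgroup.zpowers u) := by
    refine ⟨inferInstance, fun x hx => ?_⟩
    obtain ⟨i, rfl⟩ := Subgroup.mem_zpowers_iff.1 hx
    rw [← zpow_natCast, ← zpow_mul, mul_comm, zpow_mul, zpow_natCast, pow_two, hu2, one_zpow]
  have hE : IsElementaryAbelian 2 (V ⊔ Subgroup.zpowers u) := ea_sup hVe hU fun a ha b hb => by
    obtain ⟨i, rfl⟩ := Subgroup.mem_zpowers_iff.1 hb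
    exact ((show Commute a u from hc a ha).zpow_right i).eq
  have h4 := card_le_four hE (Nat.lt_of_not_le fun h8 =>
    hno _ ⟨sup_le hVS (Subgroup.zpowers_le.2 hu), hE, h8⟩)
  have e : V = V ⊔ Subgroup.zpowers u := Subgroup.eq_of_le_of_card_ge le_sup_left (by omega)
  rw [e]
  exact Subgroup.mem_sup_right (Subgroup.mem_zpowers u)

theorem orderOf_two_of_sq {x : G} (h : x * x = 1) (h1 : x ≠ 1) : orderOf x = 2 :=
  haveI : Fact (Nat.Prime 2) := ⟨Nat.prime_two⟩
  orderOf_eq_prime (by rw [pow_two, h]) h1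

theorem sq_of_order {x : G} (h : orderOf x = 2) : x * x = 1 ∧ x ≠ 1 :=
  ⟨by rw [← pow_two, ← h, pow_orderOf_eq_one], fun e => by rw [e, orderOf_one] at h; omega⟩

/-- Subgroups of index two of the trace, for the transfer. -/
theorem map_index_two (S : Sylow 2 G) {T : Subgroup ↥(S : Subgroup G)}
    (h : ∀ b ∈ ((S : Subgroup G) ⊓ pResidual 2 G).subgroupOf (S : Subgroup G),
      ∀ c ∈ ((S : Subgroup G) ⊓ pResidual 2 G).subgroupOf (S : Subgroup G), b ∉ T → c ∉ T → b⁻¹ * c ∈ T) :
    ∀ b ∈ (S : Subgroup G) ⊓ pResidual 2 G, ∀ c ∈ (S : Subgroup G) ⊓ pResidual 2 G,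
      b ∉ T.map (S : Subgroup G).subtype → c ∉ T.map (S : Subgroup G).subtype →
      b⁻¹ * c ∈ T.map (S : Subgroup G).subtype := fun b hb c hc hbT hcT =>
  ⟨_, h ⟨b, hb.1⟩ hb ⟨c, hc.1⟩ hc (fun hh => hbT ⟨_, hh, rfl⟩) (fun hh => hcT ⟨_, hh, rfl⟩), rfl⟩

variable (D : Hyp G)
include D

/-- **Rank two.** -/
theorem OnlyZ.conj_all {z : G} (h : OnlyZ S z) (hzH : z ∈ pResidual 2 G) (hno : ∀ A, ¬ Big S A)
    (hiso : ∃ k ∈ pResidual 2 G, k * z * k⁻¹ ∈ (S : Subgroup G) ∧ k * z * k⁻¹ ≠ z) :
    ∀ t ∈ (S : Subgroup G) ⊓ pResidual 2 G, orderOf t = 2 → ∃ g : G, t = g * z * g⁻¹ := by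
  haveI : Fact (Nat.Prime 2) := ⟨Nat.prime_two⟩
  set R := (S : Subgroup G) ⊓ pResidual 2 G with hR
  haveI : (R.subgroupOf (S : Subgroup G)).Normal :=
    Subgroup.normal_subgroupOf_of_le_normalizer (inf_le_normalizer S)
  rcases four_or_index_two S.isPGroup' (R.subgroupOf (S : Subgroup G)) with ⟨V₀, hVn, hVR, hV4, hV2⟩ | ⟨T₀, hTR, hTi, hTc⟩
  swap
  · intro t ht ht2
    have hTle : T₀.map (S : Subgroup G).subtype ≤ R := by
      rintro _ ⟨x, hx, rfl⟩
      exact hTR hx
    obtain ⟨g, -, hg⟩ := conj_into S hTle (map_index_two S hTi) ht ht2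
    obtain ⟨x, hx, hxe⟩ := hg
    obtain ⟨hs, hn⟩ := sq_of_order ht2
    have hxx : (x : G) * x = 1 := by
      rw [show (x : G) = g * t * g⁻¹ from hxe, show g * t * g⁻¹ * (g * t * g⁻¹) = g * (t * t) * g⁻¹ by group, hs]
      group
    have hxc := Subgroup.mem_center_iff.1 (hTc x hx (Subtype.ext hxx))
    have hxZ : (x : G) ∈ Zof S := mem_Zof.2 ⟨x.2, fun s hs => congrArg Subtype.val (hxc ⟨s, hs⟩),
      by rw [pow_two, hxx]⟩
    rcases h.2.2 _ hxZ with he | he
    · exact absurd (conj_eq_one_iff.1 ((show g * t * g⁻¹ = (x : G) from hxe.symm).trans he)) hn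
    · refine ⟨g⁻¹, ?_⟩
      rw [← he, show (x : G) = g * t * g⁻¹ from hxe]
      group
  -- a normal four-subgroup in the trace
  set V := V₀.map (S : Subgroup G).subtype with hVdef
  have hVR' : V ≤ R := by
    rintro _ ⟨x, hx, rfl⟩
    exact hVR hx
  have hVS : V ≤ (S : Subgroup G) := hVR'.trans inf_le_left
  have hVn' : (S : Subgroup G) ≤ Subgroup.normalizer (V : Set G) := fun s hs => by
    refine Subgroup.mem_normalizer_fintype ?_
    rintro _ ⟨v, hv, rfl⟩
    exact ⟨⟨s, hs⟩ * v * ⟨s, hs⟩⁻¹, hVn.conj_mem v hv _, rfl⟩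
  have hV4' : Nat.card V = 4 := by rw [hVdef, Subgroup.card_map_of_injective (Subgroup.subtype_injective _), hV4]
  have hVe : IsElementaryAbelian 2 V := by
    refine ea_map ⟨⟨⟨fun p q => ?_⟩⟩, fun x hx => by rw [pow_two]; exact hV2 x hx⟩ _
    have h := hV2 _ (V₀.mul_mem p.2 q.2)
    have hp : (p : ↥(S : Subgroup G))⁻¹ = p := inv_eq_of_mul_eq_one_right (hV2 _ p.2)
    have hq : (q : ↥(S : Subgroup G))⁻¹ = q := inv_eq_of_mul_eq_one_right (hV2 _ q.2)
    refine Subtype.ext ?_
    show (p : ↥(S : Subgroup G)) * q = q * p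
    conv_lhs => rw [← inv_eq_of_mul_eq_one_right h, mul_inv_rev, hp, hq]
  have sq : ∀ x ∈ V, x * x = 1 := fun x hx => by rw [← pow_two]; exact hVe.2 x hx
  have hzV : z ∈ V := by
    obtain ⟨w, hw, hw1, hwZ⟩ := exists_mem_Zof hVS hVn' (fun e => by rw [e, Subgroup.card_bot] at hV4'; omega)
    rcases h.2.2 w hwZ with he | he
    · exact absurd he hw1
    · exact he ▸ hw
  obtain ⟨hzS, hzc, -⟩ := mem_Zof.1 h.1
  obtain ⟨e, he, he1, hez⟩ : ∃ e ∈ V, e ≠ 1 ∧ e ≠ z := by
    by_contra hc
    push Not at hc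
    have hsub : (V : Set G) ⊆ {1, z} := fun x hx => by
      by_cases h : x = 1
      · exact Or.inl h
      · exact Or.inr (hc x hx h)
    have := Set.ncard_le_ncard hsub
    rw [← Nat.card_coe_set_eq] at this
    have h2 := (Set.ncard_insert_le (1 : G) {z}).trans (by rw [Set.ncard_singleton])
    change Nat.card V ≤ _ at this
    omega
  obtain ⟨F, hzF, heF, hF4, -, hF⟩ :=
    exists_four (Signalizer.ea_comm hVe hzV he) h.sq (sq e he) h.2.1 he1 (Ne.symm hez)
  have hFV : F = V := by
    refine Subgroup.eq_of_le_of_card_ge (fun x hx => ?_) (by omega)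
    rcases hF x hx with rfl | rfl | rfl | rfl
    exacts [V.one_mem, hzV, he, V.mul_mem hzV he]
  have hVmem : ∀ x ∈ V, x = 1 ∨ x = z ∨ x = e ∨ x = z * e := fun x hx => hF x (hFV ▸ hx)
  -- `e` and `z e` are conjugate
  obtain ⟨s, hs, hse⟩ : ∃ s ∈ (S : Subgroup G), s * e * s⁻¹ = z * e := by
    obtain ⟨s, hs, hne⟩ : ∃ s ∈ (S : Subgroup G), s * e ≠ e * s := by
      by_contra hc
      push Not at hc
      rcases h.2.2 e (mem_Zof.2 ⟨hVS he, hc, hVe.2 e he⟩) with h' | h'
      · exact he1 h'
      · exact hez h'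
    refine ⟨s, hs, ?_⟩
    rcases hVmem _ ((Subgroup.mem_normalizer_iff.1 (hVn' hs) e).1 he) with h' | h' | h' | h'
    · exact absurd (conj_eq_one_iff.1 h') he1
    · refine absurd ?_ hez
      calc e = s⁻¹ * (s * e * s⁻¹) * s := by group
        _ = s⁻¹ * (s * z) := by rw [h', hzc s hs, mul_assoc]
        _ = z := by group
    · exact absurd (mul_inv_eq_iff_eq_mul.1 h') hne
    · exact h'
  have hcv : ∀ {u : G}, u ∈ (S : Subgroup G) → u * u = 1 → u * e = e * u → u ∈ V := fun {u} hu hu2 hue => by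
    refine mem_four_of_not_big hno hVS hV4' hVe hu hu2 fun v hv => ?_
    rcases hVmem v hv with rfl | rfl | rfl | rfl
    · rw [one_mul, mul_one]
    · exact (hzc u hu).symm
    · exact hue.symm
    · rw [mul_assoc, ← hue, ← mul_assoc, ← hzc u hu, mul_assoc]
  -- `e` is conjugate to `z`
  suffices hez' : ∃ g : G, e = g * z * g⁻¹ by
    obtain ⟨g₀, hg₀⟩ := hez'
    have hV' : ∀ u ∈ V, u ≠ 1 → ∃ g : G, u = g * z * g⁻¹ := by
      intro u hu hu1
      rcases hVmem u hu with rfl | rfl | rfl | rfl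
      · exact absurd rfl hu1
      · exact ⟨1, by simp⟩
      · exact ⟨g₀, hg₀⟩
      · exact ⟨s * g₀, by rw [← hse, hg₀]; group⟩
    intro t ht ht2
    obtain ⟨hts, htn⟩ := sq_of_order ht2
    obtain ⟨g, -, hg⟩ := conj_into S (T := R ⊓ Subgroup.centralizer (V : Set G)) inf_le_left
      (fun b hb c hc hbT hcT => ⟨R.mul_mem (R.inv_mem hb) hc,
        four_centralizer hVS hVn' hV4' hVe hb.1 hc.1 (fun h' => hbT ⟨hb, h'⟩) (fun h' => hcT ⟨hc, h'⟩)⟩) ht ht2
    have hgt2 : g * t * g⁻¹ * (g * t * g⁻¹) = 1 := by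
      rw [show g * t * g⁻¹ * (g * t * g⁻¹) = g * (t * t) * g⁻¹ by group, hts]; group
    obtain ⟨g₁, hg₁⟩ := hV' _ (hcv hg.1.1 hgt2 (Subgroup.mem_centralizer_iff.1 hg.2 e he).symm)
      (fun h' => htn (conj_eq_one_iff.1 h'))
    refine ⟨g⁻¹ * g₁, ?_⟩
    calc t = g⁻¹ * (g * t * g⁻¹) * g := by group
      _ = _ := by rw [hg₁]; group
  obtain ⟨k, hk, hkS, hkz⟩ := hiso
  set z' := k * z * k⁻¹ with hz'
  have hz'2 : z' * z' = 1 := by
    rw [hz', show k * z * k⁻¹ * (k * z * k⁻¹) = k * (z * z) * k⁻¹ by group, h.sq]; group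
  have hz'1 : z' ≠ 1 := fun h' => h.2.1 (conj_eq_one_iff.1 h')
  have hz'R : z' ∈ R := ⟨hkS, residual_normal.conj_mem z hzH k⟩
  -- conjugates of `z` inside the four-group
  have inV : ∀ g : G, g * z * g⁻¹ ∈ V → g * z * g⁻¹ ≠ z → ∃ g : G, e = g * z * g⁻¹ := by
    intro g hg hgz
    rcases hVmem _ hg with h' | h' | h' | h'
    · exact absurd (conj_eq_one_iff.1 h') h.2.1
    · exact absurd h' hgz
    · exact ⟨g, h'.symm⟩
    · exact ⟨s⁻¹ * g, by rw [show s⁻¹ * g * z * (s⁻¹ * g)⁻¹ = s⁻¹ * (g * z * g⁻¹) * s by group, h', ← hse]; group⟩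
  by_cases hz'e : z' * e = e * z'
  · exact inV k (hcv hkS hz'2 hz'e) hkz
  have hz'move : z' * e * z' = z * e := by
    have hi : z'⁻¹ = z' := inv_eq_of_mul_eq_one_right hz'2
    have hm := (Subgroup.mem_normalizer_iff.1 (hVn' hkS) e).1 he
    rw [hi] at hm
    rcases hVmem _ hm with h' | h' | h' | h'
    · refine absurd ?_ he1
      calc e = z' * z' * e * (z' * z') := by rw [hz'2]; group
        _ = z' * (z' * e * z') * z' := by group
        _ = 1 := by rw [h', mul_one, hz'2]
    · refine absurd ?_ hez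
      calc e = z' * z' * e * (z' * z') := by rw [hz'2]; group
        _ = z' * (z' * e * z') * z' := by group
        _ = z := by rw [h', hzc z' hkS, mul_assoc, hz'2, mul_one]
    · refine absurd ?_ hz'e
      calc z' * e = z' * e * (z' * z') := by rw [hz'2, mul_one]
        _ = z' * e * z' * z' := by group
        _ = _ := by rw [h']
    · exact h'
  have hconjk : ∀ y : G, y * z' = z' * y → k⁻¹ * y * k ∈ Subgroup.centralizer {z} := fun y hy => by
    refine Subgroup.mem_centralizer_singleton_iff.2 ?_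
    calc k⁻¹ * y * k * z = k⁻¹ * (y * z') * k := by rw [hz']; group
      _ = _ := by rw [hy, hz']; group
  by_cases hC : ∃ c ∈ R, c * z' = z' * c ∧ c * c ≠ 1
  · -- `z` is a square in the centraliser of `z'`
    obtain ⟨c₀, hc₀R, hc₀c, hc₀⟩ := hC
    obtain ⟨n, hn⟩ := IsPGroup.iff_orderOf.1 S.isPGroup' ⟨c₀, hc₀R.1⟩
    rw [Subgroup.orderOf_mk] at hn
    obtain ⟨m, rfl⟩ : ∃ m, n = m + 2 := by
      rcases n with _ | _ | m
      · exact absurd (by rw [orderOf_eq_one_iff.1 (hn.trans (pow_zero 2)), one_mul]) hc₀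
      · exact absurd (sq_of_order (hn.trans (pow_one 2))).1 hc₀
      · exact ⟨m, rfl⟩
    set c := c₀ ^ 2 ^ m with hc
    have hcR : c ∈ R := R.pow_mem hc₀R _
    have hcc : c * z' = z' * c := ((show Commute c₀ z' from hc₀c).pow_left _).eq
    have hc4 : c * c * (c * c) = 1 := by
      rw [hc, ← pow_add, ← pow_add]
      refine orderOf_dvd_iff_pow_eq_one.1 ?_
      rw [hn]
      exact dvd_of_eq (by ring)
    have hc21 : c * c ≠ 1 := fun h' => by
      rw [hc, ← pow_add] at h'
      have h'' := orderOf_dvd_of_pow_eq_one h'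
      rw [hn, ← two_mul, ← pow_succ'] at h''
      have := Nat.pow_dvd_pow_iff_le_right (x := 2) (by norm_num) |>.1 h''
      omega
    have hsqC : ∀ y ∈ (S : Subgroup G), ∀ v ∈ V, v * (y * y) = y * y * v := by
      intro y hy
      suffices y * y ∈ Subgroup.centralizer (V : Set G) from fun v hv => Subgroup.mem_centralizer_iff.1 this v hv
      by_cases hyV : y ∈ Subgroup.centralizer (V : Set G)
      · exact mul_mem hyV hyV
      · have := four_centralizer hVS hVn' hV4' hVe ((S : Subgroup G).inv_mem hy) hy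
          (fun h' => hyV (by simpa using inv_mem h')) hyV
        rwa [inv_inv] at this
    have hczV : c * c = z := by
      have hV' := mem_four_of_not_big hno hVS hV4' hVe ((S : Subgroup G).mul_mem hcR.1 hcR.1) hc4 (hsqC c hcR.1)
      have hz'cc : c * c * z' = z' * (c * c) := ((show Commute c z' from hcc).mul_left hcc).eq
      rcases hVmem _ hV' with h' | h' | h' | h'
      · exact absurd h' hc21
      · exact h'
      · exact absurd (h' ▸ hz'cc.symm) hz'e
      · refine absurd ?_ hz'e
        rw [h'] at hz'cc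
        refine mul_left_cancel (a := z) ?_
        calc z * (z' * e) = z' * z * e := by rw [← mul_assoc, hzc z' hkS]
          _ = z * e * z' := by rw [hz'cc, mul_assoc]
          _ = _ := by rw [mul_assoc]
    -- pulled back by `k`
    set d := k⁻¹ * c * k with hd
    have hdS : d ∈ (S : Subgroup G) := by
      refine mem_of_normalizes (h.centralizer_le D (hconjk c hcc)) ?_
      have hP := (isPGroup_zpowers_of_mem hcR.1).map (MulAut.conj k⁻¹).toMonoidHom
      rw [MonoidHom.map_zpowers, show (MulAut.conj k⁻¹).toMonoidHom c = d by simp [hd]] at hP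
      exact hP
    set u := k⁻¹ * z * k with hu
    have hud : d * d = u := by rw [hu, ← hczV, hd]; group
    have huS : u ∈ (S : Subgroup G) := hud ▸ (S : Subgroup G).mul_mem hdS hdS
    have hu2 : u * u = 1 := by rw [hu, show k⁻¹ * z * k * (k⁻¹ * z * k) = k⁻¹ * (z * z) * k by group, h.sq]; group
    have huV : u ∈ V := mem_four_of_not_big hno hVS hV4' hVe huS hu2 (hud ▸ hsqC d hdS)
    have huz : u ≠ z := fun h' => hkz (by
      calc k * z * k⁻¹ = k * u * k⁻¹ := by rw [h']
        _ = z := by rw [hu]; group)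
    exact inV k⁻¹ (by rwa [inv_inv]) (by rwa [inv_inv])
  · -- the centraliser of `z'` in the trace is elementary, and the trace is dihedral of order eight
    push Not at hC
    have hCe : ∀ c ∈ R, c * z' = z' * c → c = 1 ∨ c = z ∨ c = z' ∨ c = z * z' := by
      intro c hc hcz
      obtain ⟨F', hzF', hz'F', hF'4, hF'e, hF'⟩ := exists_four (hzc z' hkS).symm h.sq hz'2 h.2.1 hz'1 (Ne.symm hkz)
      have hF'S : F' ≤ (S : Subgroup G) := fun x hx => by
        rcases hF' x hx with rfl | rfl | rfl | rfl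
        exacts [one_mem _, hzS, hkS, mul_mem hzS hkS]
      refine hF' c (mem_four_of_not_big hno hF'S hF'4 hF'e hc.1 (hC c hc hcz) fun v hv => ?_)
      rcases hF' v hv with rfl | rfl | rfl | rfl
      · rw [one_mul, mul_one]
      · exact (hzc c hc.1).symm
      · exact hcz.symm
      · rw [mul_assoc, ← hcz, ← mul_assoc, ← hzc c hc.1, mul_assoc]
    set T := R ⊓ Subgroup.centralizer (V : Set G) with hT
    have hz'T : z' ∉ T := fun h' => hz'e (Subgroup.mem_centralizer_iff.1 h'.2 e he).symm
    have hTV : T ≤ V := by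
      by_contra hle
      haveI : (V₀.map (QuotientGroup.mk' V₀)).Normal := Subgroup.Normal.map hVn _ (QuotientGroup.mk'_surjective _)
      haveI : (T.subgroupOf (S : Subgroup G)).Normal := by
        refine Subgroup.normal_subgroupOf_of_le_normalizer fun s hs => Subgroup.mem_normalizer_fintype fun x hx => ?_
        refine ⟨(Subgroup.mem_normalizer_iff.1 (inf_le_normalizer S hs) x).1 hx.1,
          Subgroup.mem_centralizer_iff.2 fun v hv => ?_⟩
        have hv' : s⁻¹ * v * s ∈ V := (Subgroup.mem_normalizer_iff.1 (hVn' hs) _).2 (by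
          rwa [show s * (s⁻¹ * v * s) * s⁻¹ = v by group])
        have h' := Subgroup.mem_centralizer_iff.1 hx.2 _ hv'
        calc v * (s * x * s⁻¹) = s * (s⁻¹ * v * s * x) * s⁻¹ := by group
          _ = _ := by rw [h']; group
      let π := QuotientGroup.mk' V₀
      haveI : ((T.subgroupOf (S : Subgroup G)).map π).Normal :=
        Subgroup.Normal.map inferInstance π (QuotientGroup.mk'_surjective _)
      have hne : (T.subgroupOf (S : Subgroup G)).map π ≠ ⊥ := by
        intro h'
        rw [Subgroup.map_eq_bot_iff, QuotientGroup.ker_mk'] at h'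
        exact hle fun x hx => ⟨⟨x, hx.1.1⟩, h' hx, rfl⟩
      obtain ⟨w, hw, hwo, hwc⟩ := NormalFour.exists_central_mem (S.isPGroup'.to_quotient V₀) hne
      obtain ⟨⟨q, hqS⟩, hq, rfl⟩ := hw
      have hqT : q ∈ T := hq
      have hqV : q ∉ V := fun ⟨v, hv, hve⟩ => by
        rw [show π ⟨q, hqS⟩ = 1 from (QuotientGroup.eq_one_iff _).2 ((Subtype.ext hve : v = ⟨q, hqS⟩) ▸ hv),
          orderOf_one] at hwo
        omega
      -- the commutator with `z'` lies in `V`
      have hcm := Subgroup.mem_center_iff.1 hwc (π ⟨z', hkS⟩)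
      rw [← map_mul, ← map_mul, QuotientGroup.mk'_apply, QuotientGroup.mk'_apply, QuotientGroup.eq] at hcm
      set a := (z' * q)⁻¹ * (q * z') with ha
      have haV : a ∈ V := ⟨_, hcm, rfl⟩
      obtain ⟨a', ha'V, hqa⟩ : ∃ a' ∈ V, z' * q * z' = q * a' := by
        refine ⟨a, haV, ?_⟩
        calc z' * q * z' = z' * (q * z') := by group
          _ = z' * (z' * q * a) := by rw [show q * z' = z' * q * a by rw [ha]; group]
          _ = (z' * z') * q * a := by group
          _ = q * a := by rw [hz'2, one_mul]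
      have fixed : ∀ q' ∈ T, q' ∉ V → z' * q' * z' = q' → False := by
        intro q' hq' hq'V hfix
        have hc : q' * z' = z' * q' := by
          calc q' * z' = z' * q' * z' * z' := by rw [hfix]
            _ = z' * q' := by rw [mul_assoc, hz'2, mul_one]
        rcases hCe q' hq'.1 hc with h' | h' | h' | h'
        · exact hq'V (h' ▸ V.one_mem)
        · exact hq'V (h' ▸ hzV)
        · exact hz'T (h' ▸ hq')
        · refine hz'T ⟨hz'R, ?_⟩
          have := mul_mem (Subgroup.mem_centralizer_iff.2 fun v hv => Signalizer.ea_comm hVe hv hzV :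
            z ∈ Subgroup.centralizer (V : Set G)) (h' ▸ hq'.2)
          rwa [← mul_assoc, h.sq, one_mul] at this
      rcases hVmem a' ha'V with h' | h' | h' | h'
      · exact fixed q hqT hqV (by rw [hqa, h', mul_one])
      · -- adjust by `e`
        refine fixed (q * e) ⟨R.mul_mem hqT.1 (hVR' he),
          mul_mem hqT.2 (Subgroup.mem_centralizer_iff.2 fun v hv => Signalizer.ea_comm hVe hv he)⟩
          (fun h'' => hqV (by
            have := V.mul_mem h'' he
            rwa [mul_assoc, sq e he, mul_one] at this)) ?_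
        calc z' * (q * e) * z' = z' * q * (z' * z') * e * z' := by rw [hz'2]; group
          _ = (z' * q * z') * (z' * e * z') := by group
          _ = q * z * (z * e) := by rw [hqa, h', hz'move]
          _ = q * (z * z) * e := by group
          _ = q * e := by rw [h.sq, mul_one]
      all_goals
        have h5 : q = q * (a' * (z' * a' * z')) := by
          calc q = (z' * z') * q * (z' * z') := by rw [hz'2, one_mul, mul_one]
            _ = z' * (z' * q * z') * z' := by group
            _ = z' * (q * a') * z' := by rw [hqa]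
            _ = z' * q * (z' * z') * a' * z' := by rw [hz'2]; group
            _ = (z' * q * z') * (z' * a' * z') := by group
            _ = q * a' * (z' * a' * z') := by rw [hqa]
            _ = _ := by group
        have h6 : a' * (z' * a' * z') = 1 := (mul_left_cancel (a := q) (by rw [mul_one]; exact h5)).symm
        have h7 : z' * a' * z' = z * a' := by
          rw [h']
          first
            | exact hz'move
            | calc z' * (z * e) * z' = z' * z * e * z' := by group
                _ = z * (z' * e * z') := by rw [hzc z' hkS]; group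
                _ = _ := by rw [hz'move]
        rw [h7, ← mul_assoc, Signalizer.ea_comm hVe ha'V hzV, mul_assoc, sq a' ha'V, mul_one] at h6
        exact h.2.1 h6
    -- dihedral of order eight
    have hR8 : Nat.card R ≤ 8 := by
      refine (card_le_two_mul (C := T) fun b hb c hc hbT hcT => ?_).trans ?_
      · exact ⟨R.mul_mem (R.inv_mem hb) hc, four_centralizer hVS hVn' hV4' hVe hb.1 hc.1
          (fun h' => hbT ⟨hb, h'⟩) (fun h' => hcT ⟨hc, h'⟩)⟩
      · have := Subgroup.card_le_of_le hTV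
        omega
    set f := z' * e with hf
    have hff : f * f = z := by
      rw [hf, show z' * e * (z' * e) = z' * e * z' * e by group, hz'move, mul_assoc, sq e he, mul_one]
    have hf4 : orderOf f = 4 := by
      refine orderOf_eq_prime_pow (p := 2) (n := 1) ?_ ?_
      · rw [pow_one, pow_two, hff]; exact h.2.1
      · rw [show (2 : ℕ) ^ (1 + 1) = 2 + 2 from rfl, pow_add, pow_two, hff, h.sq]
    have hfR : f ∈ R := R.mul_mem hz'R (hVR' he)
    have hT4 : Nat.card (Subgroup.zpowers f) = 4 := by rw [Nat.card_zpowers, hf4]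
    have heT : e ∉ Subgroup.zpowers f := by
      intro h'
      obtain ⟨i, hi⟩ := Subgroup.mem_zpowers_iff.1 h'
      have hc : f * e = e * f := by rw [← hi]; exact Commute.self_zpow f i
      rw [hf, mul_assoc, sq e he, mul_one] at hc
      refine hz'e ?_
      calc z' * e = e * (z' * e) * e := by rw [← hc]
        _ = e * z' * (e * e) := by group
        _ = e * z' := by rw [sq e he, mul_one]
    have hidx : (Subgroup.zpowers f).relIndex R = 2 := by
      have hle : Subgroup.zpowers f ≤ R := Subgroup.zpowers_le.2 hfR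
      have h1 := Subgroup.relIndex_mul_relIndex ⊥ (Subgroup.zpowers f) R bot_le hle
      rw [Subgroup.relIndex_bot_left, Subgroup.relIndex_bot_left, hT4] at h1
      have h2 : (Subgroup.zpowers f).relIndex R ≠ 1 := fun h' => heT (Subgroup.relIndex_eq_one.1 h' (hVR' he))
      have h3 : 0 < (Subgroup.zpowers f).relIndex R := Nat.pos_of_ne_zero (Subgroup.index_ne_zero_of_finite)
      omega
    obtain ⟨g, -, hg⟩ := conj_into S (T := Subgroup.zpowers f) (Subgroup.zpowers_le.2 hfR)
      (fun b hb c hc hbT hcT => by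
        have h1 := Subgroup.mul_mem_iff_of_index_two (H := (Subgroup.zpowers f).subgroupOf R) hidx
          (a := ⟨b⁻¹, R.inv_mem hb⟩) (b := ⟨c, hc⟩)
        refine h1.2 ?_
        simp only [Subgroup.mem_subgroupOf, Subgroup.inv_mem_iff]
        exact iff_of_false hbT hcT) ⟨hVS he, (hVR' he).2⟩ (orderOf_two_of_sq (sq e he) he1)
    obtain ⟨i, hi⟩ := Subgroup.mem_zpowers_iff.1 hg
    have hge : g * e * g⁻¹ ∈ Subgroup.zpowers f := hg
    have h2 : g * e * g⁻¹ * (g * e * g⁻¹) = 1 := by
      rw [show g * e * g⁻¹ * (g * e * g⁻¹) = g * (e * e) * g⁻¹ by group, sq e he]; group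
    rw [← hi, ← zpow_add] at h2
    have hd : (4 : ℤ) ∣ i + i := by
      have := orderOf_dvd_iff_zpow_eq_one.2 h2
      rwa [hf4] at this
    obtain ⟨j, hj⟩ : (2 : ℤ) ∣ i := by omega
    rcases Int.even_or_odd' j with ⟨l, hl | hl⟩
    · refine absurd ?_ he1
      have : f ^ i = 1 := by
        refine orderOf_dvd_iff_zpow_eq_one.1 ?_
        rw [hf4, hj, hl]; exact ⟨l, by push_cast; ring⟩
      exact conj_eq_one_iff.1 (hi.symm.trans this)
    · refine ⟨g⁻¹, ?_⟩
      have : f ^ i = z := by
        rw [← hff, hj, hl, show (2 : ℤ) * (2 * l + 1) = 4 * l + 2 by ring, zpow_add,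
          orderOf_dvd_iff_zpow_eq_one.1 (show (orderOf f : ℤ) ∣ 4 * l by rw [hf4]; exact dvd_mul_right _ _), one_mul]
        exact zpow_two f
      rw [← this, hi]
      group

end Cfsg.Agent.ZCGroup
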